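import Cfsg.Agent.Lib.MagicExt.Main
import Cfsg.Agent.Lib.Brauer.ExtensionChar
import Cfsg.Prelude.Def_Transfer

/-!
# Extending the faithful character of a normal extraspecial two-group
-/

set_option autoImplicit false
set_option linter.unusedSectionVars false
set_option linter.style.haveILetI false

namespace Cfsg.Agent.Lib.MagicExt.Apply

open Matrix hiding mul_inv_rev
open Cfsg.Agent.Lib.MagicExt.Linear Cfsg.Agent.Lib.MagicExt.Extend
open Cfsg.Agent.Lib.MagicExt.Datum Cfsg.Agent.Lib.MagicExt.Centre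
open scoped commutatorElement

universe u

/-- An extraspecial two-group is a datum. -/
theorem exists_dat {P : Type u} [Group P] [Finite P] (hP : Cfsg.IsExtraspecial 2 P) :
    ∃ z : P, Dat z := by
  obtain ⟨⟨hp, hfr, hcomm⟩, hcard⟩ := hP
  obtain ⟨x, y, hxy, hxyu⟩ := Nat.card_eq_two_iff.mp hcard
  obtain ⟨z, hz1⟩ : ∃ z : Subgroup.center P, z ≠ 1 := by
    by_cases h : x = 1
    · exact ⟨y, fun h' => hxy (h.trans h'.symm)⟩
    · exact ⟨x, h⟩
  have huniv : ∀ c : Subgroup.center P, c = 1 ∨ c = z := fun c => by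
    have hm : ∀ w, w = x ∨ w = y := fun w => by
      have : w ∈ ({x, y} : Set (Subgroup.center P)) := hxyu ▸ Set.mem_univ w
      simpa using this
    rcases hm c with h | h <;> rcases hm 1 with h1 | h1 <;> rcases hm z with h2 | h2 <;>
      simp_all
  have hcases : ∀ a ∈ Subgroup.center P, a = 1 ∨ a = (z : P) := fun a ha =>
    (huniv ⟨a, ha⟩).imp (congrArg Subtype.val) (congrArg Subtype.val)
  refine ⟨z, fun h => hz1 (Subtype.ext h), ?_, fun a => (Subgroup.mem_center_iff.mp z.2 a).symm,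
    fun a b => ?_, fun a => ?_, fun a ha => hcases a (Subgroup.mem_center_iff.mpr fun b => (ha b).symm)⟩
  · rcases hcases _ ((Subgroup.center P).mul_mem z.2 z.2) with h | h
    · exact h
    · exact absurd (Subtype.ext (mul_eq_left.mp h)) hz1
  · have hmem : a * b * a⁻¹ * b⁻¹ ∈ Subgroup.center P := by
      rw [← hcomm, commutator_def]
      exact Subgroup.commutator_mem_commutator (Subgroup.mem_top a) (Subgroup.mem_top b)
    rcases hcases _ hmem with h | h
    · refine Or.inl ?_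
      calc a * b = a * b * a⁻¹ * b⁻¹ * (b * a) := by group
        _ = b * a := by rw [h, one_mul]
    · refine Or.inr ?_
      calc a * b = a * b * a⁻¹ * b⁻¹ * (b * a) := by group
        _ = (z : P) * (b * a) := by rw [h]
  · refine hcases _ ?_
    rw [← hfr]
    by_contra hna
    rw [frattini, Order.radical] at hna
    simp only [Subgroup.mem_iInf] at hna
    push Not at hna
    obtain ⟨M, hM, haM⟩ := hna
    obtain ⟨H, hMH, hH⟩ := Cases.exists_index_two hp hM.1
    have hHtop : H ≠ ⊤ := fun h => by rw [h, Subgroup.index_top] at hH; omega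
    have hHM : H = M := by
      rcases eq_or_lt_of_le hMH with h | h
      · exact h.symm
      · exact absurd (hM.2 H h) hHtop
    exact haM (hHM ▸ (Subgroup.mul_mem_iff_of_index_two hH).mpr Iff.rfl)

variable {G : Type u} [Group G] [Finite G] (E H : Subgroup G) [E.Normal]

/-- The action by conjugation. -/
abbrev conjE (P : Subgroup G) : P →* MulAut E := (MulAut.conjNormal (H := E)).comp P.subtype

/-- A linearised action gives a character of the product. -/
theorem char_of_ext {P : Subgroup G} (hEP : E ⊓ P = ⊥) {N : ℕ}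
    (ρ : E →* Matrix (Fin N) (Fin N) ℂ) (h : Ext ρ (conjE E P)) :
    ∃ (X : Subgroup G) (hEX : E ≤ X) (η : X → ℂ), Nat.card X = Nat.card E * Nat.card P ∧
      Cfsg.IsCharacter X η ∧ ∀ e : E, η ⟨(e : G), hEX e.2⟩ = trace (ρ e) := by
  classical
  obtain ⟨R, hR⟩ := h
  let f : E ⋊[conjE E P] P →* G := SemidirectProduct.lift E.subtype P.subtype fun p => by
    ext e
    simp [MulAut.conjNormal_apply]
  have hfd : ∀ x, f x = (x.left : G) * (x.right : G) := fun x => rfl
  have hinj : Function.Injective f := fun x y hxy => by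
    rw [hfd, hfd] at hxy
    have h1 : ((y.left : G))⁻¹ * x.left = y.right * (x.right : G)⁻¹ := by
      rw [eq_mul_inv_iff_mul_eq, mul_assoc, hxy, inv_mul_cancel_left]
    have h2 : ((y.left : G))⁻¹ * x.left ∈ E ⊓ P :=
      ⟨E.mul_mem (E.inv_mem y.left.2) x.left.2, h1 ▸ P.mul_mem y.right.2 (P.inv_mem x.right.2)⟩
    rw [hEP, Subgroup.mem_bot] at h2
    refine SemidirectProduct.ext (Subtype.ext (inv_mul_eq_one.mp h2).symm) (Subtype.ext ?_)
    rw [h2] at h1
    exact (mul_inv_eq_one.mp h1.symm).symm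
  let RU : P →* (Matrix (Fin N) (Fin N) ℂ)ˣ := R.toHomUnits
  let ρU : E →* (Matrix (Fin N) (Fin N) ℂ)ˣ := ρ.toHomUnits
  let L : E ⋊[conjE E P] P →* (Matrix (Fin N) (Fin N) ℂ)ˣ :=
    SemidirectProduct.lift ρU RU fun p => MonoidHom.ext fun e => Units.ext (by
      show ρ (conjE E P p e) = R p * ρ e * ((RU p)⁻¹ : (Matrix (Fin N) (Fin N) ℂ)ˣ).val
      rw [hR, mul_assoc]
      exact (((congrArg _ (Units.mul_inv (RU p)))).trans (mul_one _)).symm)
  let e : E ⋊[conjE E P] P ≃* f.range := MonoidHom.ofInjective hinj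
  let τ : Representation ℂ f.range (Fin N → ℂ) :=
    (Matrix.toLinAlgEquiv' (R := ℂ) (n := Fin N)).toMonoidHom.comp
      ((Units.coeHom _).comp (L.comp e.symm.toMonoidHom))
  have hEX : E ≤ f.range := fun a ha => ⟨SemidirectProduct.inl ⟨a, ha⟩, by simp [f]⟩
  refine ⟨f.range, hEX, τ.character, ?_, ⟨N, τ, rfl⟩, fun a => ?_⟩
  · rw [← Nat.card_congr e.toEquiv, SemidirectProduct.card]
  · show LinearMap.trace ℂ _ (τ ⟨(a : G), hEX a.2⟩) = _
    have he : e.symm ⟨(a : G), hEX a.2⟩ = SemidirectProduct.inl a := by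
      rw [MulEquiv.symm_apply_eq]
      exact Subtype.ext (by simp [e, MonoidHom.ofInjective_apply, f])
    show LinearMap.trace ℂ _ (Matrix.toLinAlgEquiv' ((L (e.symm ⟨(a : G), hEX a.2⟩) : (Matrix
      (Fin N) (Fin N) ℂ)ˣ) : Matrix (Fin N) (Fin N) ℂ)) = _
    rw [he, SemidirectProduct.lift_inl]
    show LinearMap.trace ℂ _ (Matrix.toLin' (ρ a)) = _
    exact Matrix.trace_toLin'_eq (ρ a)

/-- An irreducible character as a matrix representation. -/
theorem exists_matrix_rep {P : Type u} [Group P] [Finite P] (θ : Cfsg.IrrCharacter P) :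
    ∃ (N : ℕ) (ρ : P →* Matrix (Fin N) (Fin N) ℂ), 0 < N ∧ Irr ρ ∧
      ∀ g, trace (ρ g) = (θ : P → ℂ) g := by
  classical
  obtain ⟨N, r, hr, hch⟩ := Cfsg.Agent.Lib.Characters.Basic.exists_rep θ
  let ρ : P →* Matrix (Fin N) (Fin N) ℂ :=
    (LinearMap.toMatrixAlgEquiv' (R := ℂ) (n := Fin N)).toMonoidHom.comp r
  have htr : ∀ g, trace (ρ g) = (θ : P → ℂ) g := fun g => by
    rw [← hch]
    exact (LinearMap.trace_eq_matrix_trace ℂ (Pi.basisFun ℂ (Fin N)) (r g)).symm
  refine ⟨N, ρ, Nat.pos_of_ne_zero fun h => Cfsg.Agent.Lib.Characters.Basic.apply_one_ne_zero θ ?_,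
    fun A hA => ?_, htr⟩
  · subst h
    rw [← htr]
    simp [Matrix.trace]
  · let F : Representation.IntertwiningMap r r := ⟨LinearMap.toMatrixAlgEquiv'.symm A, fun g => by
      apply LinearMap.toMatrixAlgEquiv'.injective
      simp only [← Module.End.mul_eq_comp, map_mul, AlgEquiv.apply_symm_apply]
      exact hA g⟩
    obtain ⟨c, hc⟩ := (Representation.IsIrreducible.algebraMap_intertwiningMap_bijective_of_isAlgClosed
      (k := ℂ) (G := P) (V := Fin N → ℂ) (ρ := r)).2 F
    refine ⟨c, ?_⟩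
    have h1 : LinearMap.toMatrixAlgEquiv'.symm A = c • (1 : Module.End ℂ (Fin N → ℂ)) := by
      refine LinearMap.ext fun x => ?_
      have := congrArg (fun Φ : Representation.IntertwiningMap r r => Φ.toLinearMap x) hc.symm
      have hF : F.toLinearMap x = LinearMap.toMatrixAlgEquiv'.symm A x := rfl
      simp only [hF] at this
      simpa using this
    have := congrArg (LinearMap.toMatrixAlgEquiv' (R := ℂ) (n := Fin N)) h1
    simpa only [AlgEquiv.apply_symm_apply, map_smul, map_one] using this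

/-- The theorem. -/
theorem exists_extension (hE : Cfsg.IsExtraspecial 2 ↥E) (hEH : E ⊓ H = ⊥) (hEHtop : E ⊔ H = ⊤)
    (K : Subgroup G) (hKH : K ≤ H) (hKn : ∀ h ∈ H, ∀ k ∈ K, h * k * h⁻¹ ∈ K)
    (hKodd : Odd (Nat.card ↥K)) (hEK : ⁅E, K⁆ = E) (θ : Cfsg.IrrCharacter ↥E)
    (hθ : ∀ e : ↥E, (θ : ↥E → ℂ) e = (θ : ↥E → ℂ) 1 → e = 1) :
    ∃ χ : Cfsg.IrrCharacter G, ∀ e : ↥E, (χ : G → ℂ) e = (θ : ↥E → ℂ) e := by
  classical
  haveI := Fintype.ofFinite E
  obtain ⟨z, D⟩ := exists_dat hE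
  obtain ⟨N, ρ, hN, hρ, htr⟩ := exists_matrix_rep θ
  haveI : NeZero N := ⟨hN.ne'⟩
  have hz : ρ z = -1 := by
    obtain ⟨c, hc⟩ := hρ (ρ z) fun e => by rw [← map_mul, ← map_mul, D.central]
    have hcc : c * c = 1 := by
      have h : ρ z * ρ z = 1 := by rw [← map_mul, D.sq_z, map_one]
      rw [hc, smul_mul_smul_comm, one_mul] at h
      exact scalar_one h
    rcases mul_self_eq_one_iff.mp hcc with h1 | h1
    · exact absurd (hθ z (by rw [← htr, ← htr, hc, h1, one_smul, map_one])) D.ne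
    · rw [hc, h1, neg_smul, one_smul]
  -- the action of `K`
  have hfree : Lift.Free (z := z) (conjE E K).range := by
    refine ⟨hKodd.of_dvd_nat (Subgroup.card_range_dvd _), fun e he => D.nondeg e fun b => ?_⟩
    have key : ∀ g ∈ ⁅E, K⁆, ∃ hg : g ∈ E, e * ⟨g, hg⟩ = ⟨g, hg⟩ * e := by
      intro g hg
      rw [Subgroup.commutator_def] at hg
      induction hg using Subgroup.closure_induction with
      | mem x hx =>
        obtain ⟨a, ha, k, hk, rfl⟩ := hx
        set α : MulAut E := conjE E K ⟨k, hk⟩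
        have hmem : ⁅a, k⁆ = ((⟨a, ha⟩ * α ⟨a, ha⟩⁻¹ : E) : G) := by
          simp [α, MulAut.conjNormal_apply, commutatorElement_def, mul_assoc]
        refine ⟨hmem ▸ (⟨a, ha⟩ * α ⟨a, ha⟩⁻¹ : E).2, ?_⟩
        have hsub : (⟨⁅a, k⁆, hmem ▸ (⟨a, ha⟩ * α ⟨a, ha⟩⁻¹ : E).2⟩ : E) =
            ⟨a, ha⟩ * α ⟨a, ha⟩⁻¹ := Subtype.ext hmem
        rw [hsub]
        apply commute_of_form D
        rw [cl_mul, form_add_right]
        conv_lhs => arg 2; rw [← he α ⟨⟨k, hk⟩, rfl⟩, ← act_cl, ← act_cl, form_act, cl_inv, neg_eq]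
        exact CharTwo.add_self_eq_zero _
      | one => exact ⟨E.one_mem, show e * 1 = 1 * e by rw [mul_one, one_mul]⟩
      | mul x y _ _ hx hy =>
        obtain ⟨hx, hxc⟩ := hx
        obtain ⟨hy, hyc⟩ := hy
        refine ⟨E.mul_mem hx hy, ?_⟩
        show e * (⟨x, hx⟩ * ⟨y, hy⟩) = ⟨x, hx⟩ * ⟨y, hy⟩ * e
        rw [← mul_assoc, hxc, mul_assoc, hyc, mul_assoc]
      | inv x _ hx =>
        obtain ⟨hx, hxc⟩ := hx
        exact ⟨E.inv_mem hx, (Commute.inv_right (hxc : Commute e ⟨x, hx⟩)).eq⟩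
    obtain ⟨_, hb⟩ := key (b : G) (hEK.symm ▸ b.2)
    exact hb
  have hinv : ∀ (g : G) (e : E), (θ : E → ℂ) ⟨g * e * g⁻¹, Subgroup.Normal.conj_mem inferInstance
      (e : G) e.2 g⟩ = (θ : E → ℂ) e := fun g e => by
    rw [← htr, ← htr]
    exact trace_apply D hz (MulAut.conjNormal g) e
  obtain ⟨χ, hχ, hχθ⟩ := Cfsg.Agent.Lib.Brauer.ExtensionChar.exists_extension_sylow E θ.2 hinv
    fun p hp => by
    haveI := Fact.mk hp
    obtain ⟨S⟩ := (inferInstance : Nonempty (Sylow p H))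
    let P : Subgroup G := (S : Subgroup H).map H.subtype
    have hPH : P ≤ H := Subgroup.map_subtype_le _
    have hcardP : Nat.card P = Nat.card (S : Subgroup H) :=
      Subgroup.card_map_of_injective H.subtype_injective
    have hPp : IsPGroup p P := S.isPGroup'.map _
    have hEP : E ⊓ P = ⊥ := le_bot_iff.mp ((inf_le_inf_left E hPH).trans hEH.le)
    have hext : Ext ρ (conjE E P) := by
      by_cases h2 : p = 2
      · subst h2
        refine Main.ext_aux (Nat.card E) E z D le_rfl P hPp _ _ hfree ?_ _ ρ hρ hz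
        rintro t _ ⟨k, rfl⟩
        refine ⟨⟨(t : G) * k * (t : G)⁻¹, hKn _ (hPH t.2) _ k.2⟩, ?_⟩
        show MulAut.conjNormal ((t : G) * k * (t : G)⁻¹) = _
        rw [map_mul, map_mul, map_inv]
        rfl
      · obtain ⟨a, ha⟩ := IsPGroup.iff_card.mp hPp
        obtain ⟨k, hk⟩ := IsPGroup.iff_card.mp hE.1.1
        obtain ⟨R, hR, -⟩ := exists_normalised (φ := conjE E P) hρ
          (fun t e => trace_apply D hz _ e)
          (P := 1) (m := N) ⟨1, 1, mul_one 1, mul_one 1⟩ hN (by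
            rw [ha]
            refine Nat.Coprime.pow_right _ (Nat.Coprime.coprime_dvd_left
              (show N ∣ 2 ^ k from ?_) (Nat.Coprime.pow_left _
                ((Nat.coprime_primes Nat.prime_two hp).mpr (Ne.symm h2))))
            rw [← hk, Nat.card_eq_fintype_card, ← card_eq D hρ hz, Fintype.card_fin]
            exact ⟨2 * N, by ring⟩)
          (fun _ X _ _ => by rw [mul_one, one_mul])
        exact ⟨R, hR⟩
    obtain ⟨X, hEX, η, hcard, hη, hηθ⟩ := char_of_ext E hEP ρ hext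
    refine ⟨X, hEX, η, ?_, hη, fun e => (hηθ e).trans (htr e)⟩
    have hGcard : Nat.card G = Nat.card E * Nat.card H :=
      (Subgroup.isComplement'_of_disjoint_and_mul_eq_univ (disjoint_iff.mpr hEH) (by
        rw [← Subgroup.normal_mul, hEHtop, Subgroup.coe_top])).card_mul.symm
    have h1 := X.card_mul_index
    rw [hcard, hGcard, hcardP, ← (S : Subgroup H).card_mul_index, mul_assoc] at h1
    have h2 := Nat.eq_of_mul_eq_mul_left Nat.card_pos h1
    rw [Nat.eq_of_mul_eq_mul_left Nat.card_pos h2]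
    exact ((Nat.Prime.coprime_iff_not_dvd hp).mpr S.not_dvd_index).symm
  exact ⟨⟨χ, hχ⟩, hχθ⟩

end Cfsg.Agent.Lib.MagicExt.Apply
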