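import Cfsg.Agent.Lib.MagicExt.Ring

/-!
# The four configurations
-/

set_option autoImplicit false
set_option linter.unusedSectionVars false
set_option linter.style.haveILetI false

namespace Cfsg.Agent.Lib.MagicExt.Cases

open Cfsg.Agent.Lib.MagicExt.Datum Cfsg.Agent.Lib.MagicExt.Centre Cfsg.Agent.Lib.MagicExt.Ring

universe u v

variable {E : Type u} [Group E] [Finite E] {z : E} (D : Dat z) {K : Subgroup (MulAut E)}
  {T : Type v} [Group T] {φ : T →* MulAut E} (hn : ∀ t, ∀ k ∈ K, φ t * k * (φ t)⁻¹ ∈ K)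

instance finite_end : Finite (AddMonoid.End (V D)) :=
  Finite.of_injective (fun f : AddMonoid.End (V D) => (f : V D → V D)) DFunLike.coe_injective

/-- The action of `T` on the ring. -/
noncomputable def cjT (t : T) : R D K →+* R D K := cj D K (hn t)

theorem cjT_mul (s t : T) (r : R D K) : cjT D hn (s * t) r = cjT D hn s (cjT D hn t r) := by
  apply Subtype.ext
  show act D (φ (s * t)) * r.1 * act D (φ (s * t))⁻¹ =
    act D (φ s) * (act D (φ t) * r.1 * act D (φ t)⁻¹) * act D (φ s)⁻¹
  simp only [map_mul, mul_inv_rev, mul_assoc]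

theorem cjT_one (r : R D K) : cjT D hn 1 r = r := by
  apply Subtype.ext
  show act D (φ 1) * r.1 * act D (φ 1)⁻¹ = r.1
  rw [map_one φ, inv_one, map_one, one_mul, mul_one]

theorem cjT_inv (t : T) (r : R D K) : cjT D hn t⁻¹ (cjT D hn t r) = r := by
  rw [← cjT_mul, inv_mul_cancel, cjT_one]

theorem cjT_injective (t : T) : Function.Injective (cjT D hn t) := fun a b h => by
  rw [← cjT_inv D hn t a, h, cjT_inv]

/-- A nontrivial symmetric idempotent. -/
def SymIdem (ε : R D K) : Prop :=
  ε * ε = ε ∧ starHom D K ε = ε ∧ ε ≠ 0 ∧ ε ≠ 1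

/-- A split configuration. -/
def CfgS : Prop := ∃ ε, SymIdem D ε ∧ ∀ t, cjT D hn t ε = ε

/-- A swapped configuration. -/
def CfgW : Prop :=
  ∃ ε, SymIdem D ε ∧ ∃ (T₁ : Subgroup T) (t : T), T₁.Normal ∧ (∀ s, s ∈ T₁ ∨ s * t⁻¹ ∈ T₁) ∧
    t * t ∈ T₁ ∧ (∀ s ∈ T₁, cjT D hn s ε = ε) ∧ cjT D hn t ε = 1 - ε

/-- A Lagrangian configuration. -/
def CfgL : Prop :=
  ∃ f : R D K, f * f = f ∧ starHom D K f = 1 - f ∧ ∀ t, cjT D hn t f = f ∨ cjT D hn t f = 1 - f

/-- A field configuration. -/
def CfgU : Prop :=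
  ∃ (u : R D K) (q : ℕ), q.Prime ∧ q ≠ 2 ∧ u * starHom D K u = 1 ∧ u ^ q = 1 ∧
    (∀ x, (u : AddMonoid.End (V D)) x = x → x = 0) ∧ ∀ t, ∃ j : ℕ, cjT D hn t u = u ^ j

theorem sub_eq_add (a b : R D K) : a - b = a + b := by
  rw [sub_eq_add_neg, neg_eq_of_add_eq_zero_left (two_R D K b)]

theorem exists_index_two [Finite T] (hT : IsPGroup 2 T) {S : Subgroup T} (hS : S ≠ ⊤) :
    ∃ H : Subgroup T, S ≤ H ∧ H.index = 2 := by
  haveI := Fact.mk Nat.prime_two
  obtain ⟨a, ha⟩ := IsPGroup.iff_card.mp hT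
  obtain ⟨b, hb⟩ := IsPGroup.iff_card.mp (hT.to_subgroup S)
  have hlt : b < a := by
    rcases Nat.lt_or_ge b a with h | h
    · exact h
    · refine absurd (Subgroup.eq_top_of_le_card S ?_) hS
      rw [ha, hb]
      exact Nat.pow_le_pow_right two_pos h
  obtain ⟨H, hH, hSH⟩ := Sylow.exists_subgroup_card_pow_prime_le 2
    (show 2 ^ (a - 1) ∣ Nat.card T by rw [ha]; exact pow_dvd_pow 2 (Nat.sub_le a 1)) S hb (by omega)
  refine ⟨H, hSH, ?_⟩
  have h := H.card_mul_index
  rw [hH, ha, show a = a - 1 + 1 by omega, pow_succ] at h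
  simp only [Nat.add_sub_cancel] at h
  exact Nat.eq_of_mul_eq_mul_left (pow_pos two_pos _) h

/-- A symmetric idempotent gives a split or a swap. -/
theorem config_of_symIdem [Finite T] (hT : IsPGroup 2 T) {ε₀ : R D K} (h₀ : SymIdem D ε₀) :
    CfgS D hn ∨ CfgW D hn := by
  classical
  haveI := Fintype.ofFinite T
  haveI := Fintype.ofFinite (R D K)
  let F : R D K → Finset (R D K) := fun e => Finset.univ.filter fun x => e * x = x
  obtain ⟨ε, hε, hmin⟩ := Finset.exists_min_image (Finset.univ.filter fun e => SymIdem D e)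
    (fun e => (F e).card) ⟨ε₀, by simpa using h₀⟩
  simp only [Finset.mem_filter, Finset.mem_univ, true_and] at hε hmin
  obtain ⟨hee, hse, h0, h1⟩ := hε
  have himg : ∀ t, cjT D hn t ε * cjT D hn t ε = cjT D hn t ε ∧
      starHom D K (cjT D hn t ε) = cjT D hn t ε := fun t =>
    ⟨by rw [← map_mul, hee], by rw [cjT, cj_star, hse]⟩
  have horth : ∀ t, cjT D hn t ε ≠ ε → ε * cjT D hn t ε = 0 := by
    intro t hne
    set ε' := cjT D hn t ε with hε'
    have key : ∀ η ζ : R D K, η * η = η → ζ * ζ = ζ → starHom D K η = η → starHom D K ζ = ζ →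
        η ≠ 1 → (∀ e, SymIdem D e → (F η).card ≤ (F e).card) → η * ζ ≠ 0 → η * ζ = η := by
      intro η ζ hη hζ sη sζ n1 hm n0
      have hp : η * ζ * (η * ζ) = η * ζ := by linear_combination ζ * ζ * hη + η * hζ
      have hne1 : η * ζ ≠ 1 := fun h => n1 (by linear_combination (1 - η) * h + ζ * hη)
      have hsub : F (η * ζ) ⊆ F η := fun x hx => by
        simp only [F, Finset.mem_filter, Finset.mem_univ, true_and] at hx ⊢
        linear_combination (1 - η) * hx + ζ * x * hη
      have heq := Finset.eq_of_subset_of_card_le hsub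
        (hm _ ⟨hp, by rw [map_mul, sη, sζ], n0, hne1⟩)
      have : η ∈ F (η * ζ) := by
        rw [heq]
        simpa [F] using hη
      simp only [F, Finset.mem_filter, Finset.mem_univ, true_and] at this
      linear_combination this - ζ * hη
    by_contra hn0
    have e1 := key ε ε' hee (himg t).1 hse (himg t).2 h1 hmin hn0
    have hcard : (F ε').card ≤ (F ε).card := by
      refine le_of_eq (Finset.card_nbij' (fun x => cjT D hn t⁻¹ x) (fun x => cjT D hn t x) ?_ ?_
        ?_ ?_)
      · intro x hx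
        simp only [F, Finset.coe_filter, Finset.mem_univ, true_and, Set.mem_ofPred_eq] at hx ⊢
        have := congrArg (cjT D hn t⁻¹) hx
        rwa [map_mul, hε', cjT_inv] at this
      · intro x hx
        simp only [F, Finset.coe_filter, Finset.mem_univ, true_and, Set.mem_ofPred_eq] at hx ⊢
        rw [hε', ← map_mul, hx]
      · exact fun x _ => by
          show cjT D hn t (cjT D hn t⁻¹ x) = x
          rw [← cjT_mul, mul_inv_cancel, cjT_one]
      · exact fun x _ => cjT_inv D hn t x
    have e2 := key ε' ε (himg t).1 hee (himg t).2 hse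
      (fun h => h1 (cjT_injective D hn t (by rw [← hε', h, map_one])))
      (fun e he => hcard.trans (hmin e he)) (by rwa [mul_comm])
    exact hne (e2.symm.trans ((mul_comm _ _).trans e1))
  -- orbit sums
  let O : Finset (R D K) := Finset.univ.image fun t => cjT D hn t ε
  have hO : ∀ e ∈ O, ∀ e' ∈ O, e ≠ e' → e * e' = 0 := by
    intro e he e' he' hne
    obtain ⟨s, -, rfl⟩ := Finset.mem_image.mp he
    obtain ⟨t, -, rfl⟩ := Finset.mem_image.mp he'
    have h := horth (s⁻¹ * t) fun h => hne (by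
      conv_lhs => rw [← h, ← cjT_mul, mul_inv_cancel_left])
    have h' := congrArg (cjT D hn s) h
    rwa [map_mul, ← cjT_mul, mul_inv_cancel_left, map_zero] at h'
  let Sm : Finset (R D K) → R D K := fun A => ∑ e ∈ A, e
  have hmulSm : ∀ A, A ⊆ O → ∀ e ∈ A, e * Sm A = e := by
    intro A hA e he
    simp only [Sm, Finset.mul_sum]
    rw [Finset.sum_eq_single e (fun b hb hbe => hO e (hA he) b (hA hb) hbe.symm)
      (fun h => absurd he h)]
    obtain ⟨s, -, rfl⟩ := Finset.mem_image.mp (hA he)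
    exact (himg s).1
  have hsym : ∀ A, A ⊆ O → A.Nonempty → Sm A ≠ 1 → SymIdem D (Sm A) := by
    intro A hA hne h1'
    refine ⟨?_, ?_, fun h => ?_, h1'⟩
    · conv_lhs => arg 1; simp only [Sm]
      rw [Finset.sum_mul]
      exact Finset.sum_congr rfl fun e he => hmulSm A hA e he
    · simp only [Sm, map_sum]
      refine Finset.sum_congr rfl fun e he => ?_
      obtain ⟨s, -, rfl⟩ := Finset.mem_image.mp (hA he)
      exact (himg s).2
    · obtain ⟨e, he⟩ := hne
      have := hmulSm A hA e he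
      rw [h, mul_zero] at this
      obtain ⟨s, -, rfl⟩ := Finset.mem_image.mp (hA he)
      exact h0 (cjT_injective D hn s (by rw [← this, map_zero]))
  have hεO : ε ∈ O := Finset.mem_image.mpr ⟨1, Finset.mem_univ _, cjT_one D hn ε⟩
  have hperm : ∀ (t : T) (A : Finset (R D K)), cjT D hn t (Sm A) = Sm (A.image (cjT D hn t)) :=
    fun t A => by
    simp only [Sm, map_sum, Finset.sum_image (cjT_injective D hn t).injOn]
  have hOt : ∀ t, O.image (cjT D hn t) = O := fun t => by
    refine Finset.eq_of_subset_of_card_le (fun x hx => ?_)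
      (by rw [Finset.card_image_of_injective _ (cjT_injective D hn t)])
    obtain ⟨e, he, rfl⟩ := Finset.mem_image.mp hx
    obtain ⟨s, -, rfl⟩ := Finset.mem_image.mp he
    exact Finset.mem_image.mpr ⟨t * s, Finset.mem_univ _, cjT_mul D hn t s ε⟩
  by_cases hOne : Sm O ≠ 1
  · exact Or.inl ⟨Sm O, hsym O subset_rfl ⟨ε, hεO⟩ hOne, fun t => by rw [hperm, hOt]⟩
  push Not at hOne
  -- a subgroup of index two containing the stabiliser
  let St : Subgroup T :=
    { carrier := {t | cjT D hn t ε = ε}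
      one_mem' := cjT_one D hn ε
      mul_mem' := fun {a b} ha hb => by
        show cjT D hn (a * b) ε = ε
        rw [cjT_mul, hb, ha]
      inv_mem' := fun {a} ha => by
        show cjT D hn a⁻¹ ε = ε
        conv_lhs => rw [← (ha : cjT D hn a ε = ε), cjT_inv] }
  have hSt : St ≠ ⊤ := fun h => by
    refine h1 ?_
    rw [← hOne, show O = {ε} from Finset.eq_singleton_iff_unique_mem.mpr ⟨hεO, fun x hx => by
      obtain ⟨s, -, rfl⟩ := Finset.mem_image.mp hx
      exact (h.symm ▸ Subgroup.mem_top s : s ∈ St)⟩]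
    simp [Sm]
  obtain ⟨T₁, hle, hidx⟩ := exists_index_two hT hSt
  haveI hN : T₁.Normal := Subgroup.normal_of_index_eq_two hidx
  obtain ⟨t, ht⟩ := Subgroup.index_eq_two_iff.mp hidx
  have ht1 : t ∉ T₁ := fun h => by
    have := ht 1
    simp [h, T₁.one_mem] at this
  have hmemT : ∀ s, s ∈ T₁ ∨ s * t⁻¹ ∈ T₁ := fun s => by
    rcases em (s ∈ T₁) with h | h
    · exact Or.inl h
    · exact Or.inr ((Subgroup.mul_mem_iff_of_index_two hidx).mpr
        (iff_of_false h (by simpa using ht1)))
  have htt : t * t ∈ T₁ := (Subgroup.mul_mem_iff_of_index_two hidx).mpr Iff.rfl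
  let A : Finset (R D K) := (Finset.univ.filter (· ∈ T₁)).image fun s => cjT D hn s ε
  have hAO : A ⊆ O := fun x hx => by
    obtain ⟨s, -, rfl⟩ := Finset.mem_image.mp hx
    exact Finset.mem_image.mpr ⟨s, Finset.mem_univ _, rfl⟩
  have hAt : ∀ s ∈ T₁, A.image (cjT D hn s) = A := fun s hs => by
    refine Finset.eq_of_subset_of_card_le (fun x hx => ?_)
      (by rw [Finset.card_image_of_injective _ (cjT_injective D hn s)])
    obtain ⟨e, he, rfl⟩ := Finset.mem_image.mp hx
    obtain ⟨r, hr, rfl⟩ := Finset.mem_image.mp he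
    simp only [Finset.mem_filter, Finset.mem_univ, true_and] at hr
    exact Finset.mem_image.mpr ⟨s * r, by simpa using T₁.mul_mem hs hr, cjT_mul D hn s r ε⟩
  have hdisj : Disjoint A (A.image (cjT D hn t)) := by
    refine Finset.disjoint_left.mpr fun x hx hx' => ?_
    obtain ⟨a, ha, rfl⟩ := Finset.mem_image.mp hx
    obtain ⟨e, he, hee'⟩ := Finset.mem_image.mp hx'
    obtain ⟨b, hb, rfl⟩ := Finset.mem_image.mp he
    simp only [Finset.mem_filter, Finset.mem_univ, true_and] at ha hb
    rw [← cjT_mul] at hee'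
    have hst : a⁻¹ * (t * b) ∈ St := by
      show cjT D hn (a⁻¹ * (t * b)) ε = ε
      rw [cjT_mul, hee', cjT_inv]
    have h2 : t * b ∈ T₁ := by
      have := T₁.mul_mem ha (hle hst)
      rwa [mul_inv_cancel_left] at this
    exact ht1 ((T₁.mul_mem_cancel_right hb).mp h2)
  have hunion : A ∪ A.image (cjT D hn t) = O := by
    refine Finset.Subset.antisymm (Finset.union_subset hAO ?_) fun x hx => ?_
    · intro x hx
      obtain ⟨e, he, rfl⟩ := Finset.mem_image.mp hx
      rw [← hOt t]
      exact Finset.mem_image_of_mem _ (hAO he)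
    · obtain ⟨s, -, rfl⟩ := Finset.mem_image.mp hx
      rcases hmemT s with h | h
      · exact Finset.mem_union_left _ (Finset.mem_image.mpr ⟨s, by simpa using h, rfl⟩)
      · refine Finset.mem_union_right _ (Finset.mem_image.mpr
          ⟨cjT D hn (t⁻¹ * s) ε, Finset.mem_image.mpr ⟨t⁻¹ * s, ?_, rfl⟩, ?_⟩)
        · have := hN.conj_mem _ h t⁻¹
          simpa [mul_assoc] using this
        · rw [← cjT_mul, mul_inv_cancel_left]
  have hsum : Sm A + cjT D hn t (Sm A) = 1 := by
    rw [hperm, ← hOne, ← hunion]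
    exact (Finset.sum_union hdisj).symm
  have hAne : A.Nonempty := ⟨_, Finset.mem_image.mpr ⟨1, by simp, rfl⟩⟩
  have hA1 : Sm A ≠ 1 := fun h => by
    have := hsum
    rw [h, map_one, two_R] at this
    obtain ⟨e, he⟩ := hAne
    have h2 := hmulSm A hAO e he
    obtain ⟨s, -, rfl⟩ := Finset.mem_image.mp (hAO he)
    exact h0 (cjT_injective D hn s (by rw [← h2, h, ← this, mul_zero, map_zero]))
  exact Or.inr ⟨Sm A, hsym A hAO hAne hA1, T₁, t, hN, hmemT, htt,
    fun s hs => by rw [hperm, hAt s hs], eq_sub_of_add_eq' hsum⟩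

/-- The configurations exhaust all cases. -/
theorem exists_config [Finite T] (hT : IsPGroup 2 T) (hK : Odd (Nat.card K))
    (hfix : ∀ e, (∀ k ∈ K, k e = e) → e = 1 ∨ e = z) (hne : ∃ a : E, ¬ (a = 1 ∨ a = z)) :
    CfgS D hn ∨ CfgW D hn ∨ CfgL D hn ∨ CfgU D hn := by
  classical
  haveI := Fintype.ofFinite K
  by_cases hs : ∃ ε, SymIdem D (K := K) ε
  · obtain ⟨ε, hε⟩ := hs
    rcases config_of_symIdem D hn hT hε with h | h
    · exact Or.inl h
    · exact Or.inr (Or.inl h)
  push Not at hs
  have hs' : ∀ e : R D K, e * e = e → starHom D K e = e → e = 0 ∨ e = 1 := fun e h1 h2 => by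
    by_contra! h
    exact hs e ⟨h1, h2, h.1, h.2⟩
  refine Or.inr (Or.inr ?_)
  by_cases hf : ∃ f : R D K, f * f = f ∧ f ≠ 0 ∧ f ≠ 1
  · obtain ⟨f, hff, hf0, hf1⟩ := hf
    have hcomp : ∀ g : R D K, g * g = g → g ≠ 0 → g ≠ 1 → starHom D K g = 1 - g := by
      intro g hg g0 g1
      have hgs : starHom D K g * starHom D K g = starHom D K g := by rw [← map_mul, hg]
      have h0 : g * starHom D K g = 0 := by
        rcases hs' (g * starHom D K g) (by linear_combination g * g * hgs + starHom D K g * hg)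
          (by rw [map_mul, starHom_starHom, mul_comm]) with h | h
        · exact h
        · exact absurd (by linear_combination (1 - g) * h + starHom D K g * hg) g1
      rcases hs' (g + starHom D K g) (by linear_combination hg + hgs + 2 * h0)
          (by rw [map_add, starHom_starHom, add_comm]) with h | h
      · exfalso
        exact g0 (by linear_combination g * h - hg - h0)
      · exact eq_sub_of_add_eq' h
    refine Or.inl ⟨f, hff, hcomp f hff hf0 hf1, fun t => ?_⟩
    set g := cjT D hn t f with hg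
    have hgg : g * g = g := by rw [hg, ← map_mul, hff]
    have hg0 : g ≠ 0 := fun h => hf0 (cjT_injective D hn t (by rw [← hg, h, map_zero]))
    have hg1 : g ≠ 1 := fun h => hf1 (cjT_injective D hn t (by rw [← hg, h, map_one]))
    have hp : g * f * (g * f) = g * f := by linear_combination f * f * hgg + g * hff
    rcases eq_or_ne (g * f) 0 with h0 | h0
    · refine Or.inr ?_
      -- the complement of `f` is `g`
      have h2 : (1 - g) * (1 - f) = 0 := by
        have h3 : starHom D K (g * f) = 0 := by rw [h0, map_zero]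
        rwa [map_mul, hcomp g hgg hg0 hg1, hcomp f hff hf0 hf1] at h3
      linear_combination -h2 + h0
    · refine Or.inl ?_
      have hne1 : g * f ≠ 1 := fun h => hf1 (by linear_combination (1 - f) * h + g * hff)
      have h3 := hcomp (g * f) hp h0 hne1
      rw [map_mul, hcomp g hgg hg0 hg1, hcomp f hff hf0 hf1] at h3
      linear_combination (f - g) * h3 + (2 * f - 1) * hgg + (1 - 2 * g) * hff
  push Not at hf
  have hidem : ∀ e : R D K, e * e = e → e = 0 ∨ e = 1 := fun e he =>
    or_iff_not_imp_left.mpr (hf e he)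
  -- the adjoint moves a Frobenius fixed element
  obtain ⟨M, hM, hfr⟩ := exists_frob (R D K)
  let ψ : R D K → R D K := fun r => r ^ 2 ^ M
  have hψadd : ∀ a b, ψ (a + b) = ψ a + ψ b := fun a b => sq_pow_add (two_R D K) a b M
  let ψh : R D K →+ R D K :=
    { toFun := ψ
      map_zero' := zero_pow (pow_ne_zero M two_ne_zero)
      map_add' := hψadd }
  let c : ConjClasses K → R D K := fun C => ⟨cls D K C, Subring.subset_closure ⟨C, rfl⟩⟩
  obtain ⟨x, hx⟩ : ∃ x, x ≠ (0 : V D) := by
    obtain ⟨a, ha⟩ := hne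
    exact ⟨cl D a, fun h => ha ((cl_eq_zero D).mp h)⟩
  have h10 : (1 : R D K) ≠ 0 := fun h =>
    hx (congrArg (fun r : R D K => (r : AddMonoid.End (V D)) x) h)
  obtain ⟨s, hsψ, hsne⟩ : ∃ s : R D K, ψ s = s ∧ starHom D K s ≠ s := by
    by_contra! hall
    haveI := Fintype.ofFinite (ConjClasses K)
    have hsum : ∑ C, c C = 0 := by
      apply Subtype.ext
      simp only [AddSubmonoidClass.coe_finsetSum, c, cls, ZeroMemClass.coe_zero]
      refine Eq.trans (b := ∑ k : K, act D (k : MulAut E)) (by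
        convert Finset.sum_fiberwise (Finset.univ : Finset K) (fun k : K => ConjClasses.mk k)
          (fun k : K => act D (k : MulAut E))) ?_
      refine AddMonoidHom.ext fun y => ?_
      refine fixed_of_cl D hK hfix fun k hk => ?_
      show (act D k * ∑ l : K, act D (l : MulAut E)) y = (∑ l : K, act D (l : MulAut E)) y
      congr 1
      rw [Finset.mul_sum]
      refine Fintype.sum_equiv (Equiv.mulLeft ⟨k, hk⟩) _ _ fun l => ?_
      rw [Equiv.coe_mulLeft, ← map_mul]
      rfl
    have hst : ∀ k : K, ψ (c (ConjClasses.mk k⁻¹)) = ψ (c (ConjClasses.mk k)) := fun k => by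
      have h1 : starHom D K (c (ConjClasses.mk k)) = c (ConjClasses.mk k⁻¹) :=
        star'_eq D K (adj_cls D K k)
      rw [← h1, ← hall (ψ (c (ConjClasses.mk k))) (hfr _)]
      exact (map_pow (starHom D K) _ _).symm
    let ι : ConjClasses K → ConjClasses K := Quotient.map (·⁻¹) fun a b h => by
      exact ConjClasses.mk_eq_mk_iff_isConj.mp
        (mk_inv_eq (ConjClasses.mk_eq_mk_iff_isConj.mpr h))
    have hι : ∀ k : K, ι (ConjClasses.mk k) = ConjClasses.mk k⁻¹ := fun k => rfl
    have h0 := congrArg ψh hsum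
    rw [map_sum, map_zero, ← Finset.add_sum_erase _ _ (Finset.mem_univ (ConjClasses.mk (1 : K))),
      Finset.sum_involution (g := fun C _ => ι C)] at h0
    · refine h10 ?_
      have hc1 : c (ConjClasses.mk (1 : K)) = 1 := by
        apply Subtype.ext
        simp only [c, cls, OneMemClass.coe_one]
        rw [Finset.sum_eq_single (1 : K)]
        · simp
        · intro b hb hb1
          simp only [Finset.mem_filter, Finset.mem_univ, true_and] at hb
          exact absurd (isConj_one_left.mp (ConjClasses.mk_eq_mk_iff_isConj.mp hb)) hb1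
        · simp
      simpa [hc1, ψh, ψ] using h0
    · intro C _
      obtain ⟨k, rfl⟩ := ConjClasses.mk_surjective C
      show ψ _ + ψ _ = 0
      rw [hι, hst, two_R]
    · intro C hC _ h
      obtain ⟨k, rfl⟩ := ConjClasses.mk_surjective C
      rw [hι] at h
      obtain ⟨y, hy⟩ := isConj_iff.mp (ConjClasses.mk_eq_mk_iff_isConj.mp h)
      have hk1 : k ≠ 1 := fun h1 => (Finset.mem_erase.mp hC).1 (h1 ▸ rfl)
      have hord : ∀ g : K, g ^ 2 = 1 → g = 1 := fun g hg => by
        rw [← orderOf_eq_one_iff]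
        exact Nat.eq_one_of_dvd_one ((Nat.coprime_two_left.mpr hK : Nat.Coprime 2 (Nat.card K)) ▸
          Nat.dvd_gcd (orderOf_dvd_of_pow_eq_one hg) (orderOf_dvd_natCard g))
      -- `y` inverts `k`, so its odd power `y` centralises it
      have hy2 : y ^ 2 * k = k * y ^ 2 := by
        have : y * k * y⁻¹ = k⁻¹ := by
          calc y * k * y⁻¹ = (y * k⁻¹ * y⁻¹)⁻¹ := by group
            _ = k⁻¹ := by rw [hy]
        calc y ^ 2 * k = y * (y * k * y⁻¹) * y := by rw [pow_two]; group
          _ = (y * k⁻¹ * y⁻¹) * (y * y) := by rw [this]; group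
          _ = k * y ^ 2 := by rw [hy, pow_two]
      obtain ⟨i, hi⟩ := hK
      have hyk : Commute y k := by
        have : y = (y ^ 2) ^ (i + 1) := by
          rw [← pow_mul, show 2 * (i + 1) = 2 * i + 1 + 1 by ring, ← hi, pow_succ, pow_card_eq_one',
            one_mul]
        rw [this]
        exact Commute.pow_left hy2 _
      have hinv : k⁻¹ = k := by
        have h1 := hy
        rw [(hyk.inv_right).eq] at h1
        simpa using h1
      exact hk1 (hord k (by rw [pow_two]; conv_lhs => arg 1; rw [← hinv]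
                            exact inv_mul_cancel k))
    · intro C hC
      obtain ⟨k, rfl⟩ := ConjClasses.mk_surjective C
      rw [hι]
      refine Finset.mem_erase.mpr ⟨fun h => (Finset.mem_erase.mp hC).1 ?_, Finset.mem_univ _⟩
      simpa using mk_inv_eq h
    · intro C _
      obtain ⟨k, rfl⟩ := ConjClasses.mk_surjective C
      rw [hι, hι, inv_inv]
  -- fixed elements form a field
  have hpm : 1 ≤ 2 ^ M - 1 := by
    have := Nat.le_self_pow hM.ne' 2
    omega
  have hunit : ∀ r : R D K, ψ r = r → r ≠ 0 → r ^ (2 ^ M - 1) = 1 := fun r hr r0 => by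
    have hr' : r ^ (2 ^ M - 1) * r = r := by
      rw [← pow_succ, Nat.sub_add_cancel Nat.one_le_two_pow]; exact hr
    rcases hidem (r ^ (2 ^ M - 1)) (by
      conv_lhs => arg 2; rw [← Nat.sub_add_cancel hpm, pow_succ']
      rw [← mul_assoc, hr', ← pow_succ', Nat.sub_add_cancel hpm]) with h | h
    · rw [h, zero_mul] at hr'
      exact absurd hr'.symm r0
    · exact h
  let R₀ : Subring (R D K) :=
    { carrier := {r | ψ r = r}
      mul_mem' := fun {a b} ha hb => by
        show (a * b) ^ 2 ^ M = a * b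
        rw [mul_pow]; exact congrArg₂ (· * ·) ha hb
      one_mem' := one_pow _
      add_mem' := fun {a b} ha hb => by
        show ψ (a + b) = a + b
        rw [hψadd, ha, hb]
      zero_mem' := zero_pow (pow_ne_zero M two_ne_zero)
      neg_mem' := fun {a} ha => by
        show ψ (-a) = -a
        rw [neg_eq_of_add_eq_zero_left (two_R D K a)]; exact ha }
  haveI : Nontrivial R₀ := ⟨⟨1, 0, fun h => h10 (congrArg Subtype.val h)⟩⟩
  haveI : NoZeroDivisors R₀ := ⟨fun {a b} hab => by
    by_contra! h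
    have ha := hunit a.1 a.2 fun h' => h.1 (Subtype.ext h')
    have hb := hunit b.1 b.2 fun h' => h.2 (Subtype.ext h')
    refine h10 ?_
    calc (1 : R D K) = a.1 ^ (2 ^ M - 1) * b.1 ^ (2 ^ M - 1) := by rw [ha, hb, one_mul]
      _ = 0 := by rw [← mul_pow, show a.1 * b.1 = 0 from congrArg Subtype.val hab,
          zero_pow (by omega)]⟩
  haveI : IsDomain R₀ := NoZeroDivisors.to_isDomain _
  have hst' : ψ (starHom D K s) = starHom D K s := by
    show starHom D K s ^ 2 ^ M = _
    rw [← map_pow]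
    exact congrArg _ hsψ
  have hs0 : s ≠ 0 := fun h => hsne (by rw [h, map_zero])
  have hs1 : s ^ (2 ^ M - 1) = 1 := hunit s hsψ hs0
  have hs1' : starHom D K s ^ (2 ^ M - 1) = 1 := by rw [← map_pow, hs1, map_one]
  set u₀ : R D K := starHom D K s * s ^ (2 ^ M - 2) with hu₀
  have hss : s * s ^ (2 ^ M - 2) = 1 := by
    rw [← pow_succ', show 2 ^ M - 2 + 1 = 2 ^ M - 1 by omega, hs1]
  have hu0pow : u₀ ^ (2 ^ M - 1) = 1 := by
    rw [hu₀, mul_pow, hs1', ← pow_mul, mul_comm (2 ^ M - 2), pow_mul, hs1, one_pow, mul_one]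
  have hu0ne : u₀ ≠ 1 := fun h => hsne (by
    linear_combination s * h - starHom D K s * hss)
  have hu0star : u₀ * starHom D K u₀ = 1 := by
    rw [hu₀, map_mul, starHom_starHom, map_pow]
    have hss' : starHom D K s * starHom D K s ^ (2 ^ M - 2) = 1 := by
      rw [← map_pow, ← map_mul, hss, map_one]
    linear_combination (starHom D K s * starHom D K s ^ (2 ^ M - 2)) * hss + hss'
  set d := orderOf u₀ with hd
  have hdpos : 0 < d := by
    rw [hd, orderOf_pos_iff, isOfFinOrder_iff_pow_eq_one]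
    exact ⟨_, by omega, hu0pow⟩
  have hdodd : Odd d := Odd.of_dvd_nat (Nat.Even.sub_odd Nat.one_le_two_pow
    ((Nat.even_pow).mpr ⟨even_two, hM.ne'⟩) odd_one) (orderOf_dvd_of_pow_eq_one hu0pow)
  obtain ⟨q, hq, hqd⟩ := Nat.exists_prime_and_dvd (fun h => hu0ne (orderOf_eq_one_iff.mp h))
  have hq2 : q ≠ 2 := fun h => by
    subst h
    exact (Nat.not_even_iff_odd.mpr hdodd) (even_iff_two_dvd.mpr hqd)
  set u := u₀ ^ (d / q) with hu
  have hdq : d / q * q = d := Nat.div_mul_cancel hqd
  have huq : u ^ q = 1 := by rw [hu, ← pow_mul, hdq, hd, pow_orderOf_eq_one]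
  have hune : u ≠ 1 := fun h => by
    have := orderOf_dvd_of_pow_eq_one h
    rw [← hd] at this
    have hle := Nat.le_of_dvd (Nat.div_pos (Nat.le_of_dvd hdpos hqd) hq.pos) this
    have hlt := Nat.div_lt_self hdpos hq.one_lt
    omega
  have hu0R : u₀ ∈ R₀ := R₀.mul_mem hst' (R₀.pow_mem hsψ _)
  have huR : u ∈ R₀ := R₀.pow_mem hu0R _
  refine Or.inr ⟨u, q, hq, hq2, ?_, huq, fun y hy => ?_, fun t => ?_⟩
  · rw [hu, map_pow, ← mul_pow, hu0star, one_pow]
  · have hmem : u - 1 ∈ R₀ := R₀.sub_mem huR R₀.one_mem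
    have h1 := hunit (u - 1) hmem (sub_ne_zero.mpr hune)
    rw [← Nat.sub_add_cancel hpm, pow_succ] at h1
    have h2 := congrArg (fun r : R D K => (r : AddMonoid.End (V D)) y) h1
    have h3 : ((u - 1 : R D K) : AddMonoid.End (V D)) y = 0 := by
      show (u : AddMonoid.End (V D)) y - y = 0
      rw [hy, sub_self]
    simp only [Subring.coe_mul, AddMonoid.End.coe_mul, Function.comp_apply, h3, map_zero] at h2
    exact h2.symm
  · have hord : orderOf (⟨u, huR⟩ : R₀) = q := orderOf_eq_prime (hp := ⟨hq⟩) (Subtype.ext huq)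
      fun h => hune (congrArg Subtype.val h)
    have hprim : IsPrimitiveRoot (⟨u, huR⟩ : R₀) q := by
      have := IsPrimitiveRoot.orderOf (⟨u, huR⟩ : R₀)
      rwa [hord] at this
    haveI : NeZero q := ⟨hq.ne_zero⟩
    have htR : cjT D hn t u ∈ R₀ := by
      show ψ _ = _
      exact (map_pow (cjT D hn t) u (2 ^ M)).symm.trans (congrArg (cjT D hn t) huR)
    obtain ⟨j, -, hj⟩ := hprim.eq_pow_of_pow_eq_one (ξ := ⟨cjT D hn t u, htR⟩)
      (Subtype.ext (by show cjT D hn t u ^ q = 1; rw [← map_pow, huq, map_one]))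
    exact ⟨j, (congrArg Subtype.val hj).symm⟩

end Cfsg.Agent.Lib.MagicExt.Cases
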