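import Cfsg.Agent.Lib.MagicExt.Datum

/-!
# The symplectic module and invariant characters

The quotient by the centre with its commutator form, and characters invariant under a group of odd
order without fixed points.
-/

set_option autoImplicit false
set_option linter.unusedSectionVars false

namespace Cfsg.Agent.Lib.MagicExt.Centre

open Cfsg.Agent.Lib.MagicExt.Datum

universe u v

section Char

variable {A : Type u} [CommGroup A] [Finite A] {K : Type v} [Group K] [Finite K]
  (ψ : K →* MulAut A) {z : A}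

/-- An invariant character trivial on the fixed points is trivial. -/
theorem char_trivial (hK : Odd (Nat.card K)) {j : ℕ} (hA : ∀ a : A, a ^ 2 ^ j = 1)
    (hfix : ∀ a, (∀ k, ψ k a = a) → a = 1 ∨ a = z) {χ : A →* ℂ}
    (hinv : ∀ k a, χ (ψ k a) = χ a) (hz : χ z = 1) (a : A) : χ a = 1 := by
  classical
  haveI := Fintype.ofFinite K
  have h1 : χ (∏ k, ψ k a) = 1 := by
    rcases hfix (∏ k, ψ k a) (fun l => by
      rw [map_prod]
      exact Fintype.prod_equiv (Equiv.mulLeft l) _ _ fun k => by
        rw [Equiv.coe_mulLeft, map_mul]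
        rfl) with h | h
    · rw [h, map_one]
    · rw [h, hz]
  simp only [map_prod, hinv, Finset.prod_const, Finset.card_univ] at h1
  rw [← Nat.card_eq_fintype_card] at h1
  have h2 : χ a ^ 2 ^ j = 1 := by rw [← map_pow, hA, map_one]
  rw [← orderOf_eq_one_iff]
  have hc : Nat.Coprime (Nat.card K) (2 ^ j) :=
    Nat.Coprime.pow_right _ (Nat.coprime_two_right.mpr hK)
  exact Nat.eq_one_of_dvd_one
    (hc ▸ Nat.dvd_gcd (orderOf_dvd_of_pow_eq_one h1) (orderOf_dvd_of_pow_eq_one h2))

/-- The invariant sign character. -/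
theorem exists_sign_char (hK : Odd (Nat.card K)) {j : ℕ} (hA : ∀ a : A, a ^ 2 ^ j = 1)
    (hfix : ∀ a, (∀ k, ψ k a = a) → a = 1 ∨ a = z) (hz1 : z ≠ 1) (hz2 : z * z = 1)
    (hzf : ∀ k, ψ k z = z) :
    ∃ χ : A →* ℂ, (∀ k a, χ (ψ k a) = χ a) ∧ χ z = -1 ∧ (∀ a, χ a = 1 ∨ χ a = -1) ∧
      ∀ χ' : A →* ℂ, (∀ k a, χ' (ψ k a) = χ' a) → χ' z = -1 → χ' = χ := by
  classical
  haveI := Fintype.ofFinite K
  obtain ⟨ψ₀, hψ₀⟩ := CommGroup.exists_apply_ne_one_of_hasEnoughRootsOfUnity A ℂ hz1
  let ψ' : A →* ℂ := (Units.coeHom ℂ).comp ψ₀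
  have hψ' : ψ' z = -1 := by
    refine (mul_self_eq_one_iff.mp (by rw [← map_mul, hz2, map_one])).resolve_left fun h => ?_
    exact hψ₀ (Units.ext h)
  let χ : A →* ℂ :=
    { toFun := fun a => ∏ k, ψ' (ψ k a)
      map_one' := by simp
      map_mul' := fun a b => by simp [Finset.prod_mul_distrib] }
  have hinv : ∀ k a, χ (ψ k a) = χ a := fun l a => by
    refine Fintype.prod_equiv (Equiv.mulRight l) _ _ fun k => ?_
    rw [Equiv.coe_mulRight, map_mul]
    rfl
  have hχz : χ z = -1 := by
    show ∏ k, ψ' (ψ k z) = -1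
    simp only [hzf, hψ', Finset.prod_const, Finset.card_univ, ← Nat.card_eq_fintype_card,
      hK.neg_one_pow]
  have huniq : ∀ χ' : A →* ℂ, (∀ k a, χ' (ψ k a) = χ' a) → χ' z = -1 → ∀ a, χ' a * χ a = 1 := by
    intro χ' hi hz' a
    exact char_trivial ψ hK hA hfix (χ := χ' * χ) (fun k b => by simp [hi, hinv])
      (by simp [hz', hχz]) a
  refine ⟨χ, hinv, hχz, fun a => mul_self_eq_one_iff.mp (huniq χ hinv hχz a), fun χ' hi hz' =>
    MonoidHom.ext fun a => ?_⟩
  have h1 := huniq χ' hi hz' a
  have h2 := huniq χ hinv hχz a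
  exact mul_right_cancel₀ (right_ne_zero_of_mul_eq_one h2) (h1.trans h2.symm)

end Char

variable {E : Type u} [Group E] {z : E}

/-- The centre of a datum. -/
def Zc (D : Dat z) : Subgroup E where
  carrier := {a | a = 1 ∨ a = z}
  one_mem' := Or.inl rfl
  mul_mem' := by
    rintro a b (rfl | rfl) (rfl | rfl) <;> simp [D.sq_z]
  inv_mem' := by
    rintro a (rfl | rfl) <;> simp [inv_eq_of_mul_eq_one_right D.sq_z]

variable (D : Dat z)

theorem mem_Zc {a : E} : a ∈ Zc D ↔ a = 1 ∨ a = z := Iff.rfl

instance normal_Zc : (Zc D).Normal := ⟨fun a ha g => by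
  rcases ha with rfl | rfl
  · exact Or.inl (by group)
  · exact Or.inr (by rw [← D.central, mul_inv_cancel_right])⟩

theorem quot_comm (x y : E ⧸ Zc D) : x * y = y * x := by
  induction x using QuotientGroup.induction_on with
  | H a =>
    induction y using QuotientGroup.induction_on with
    | H b =>
      rw [← QuotientGroup.mk_mul, ← QuotientGroup.mk_mul, QuotientGroup.eq, mem_Zc]
      rcases D.comm b a with h | h
      · exact Or.inl (by rw [h, inv_mul_cancel])
      · exact Or.inr (by rw [h, ← mul_assoc, ← D.central]; group)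

/-- The symplectic module. -/
abbrev V : Type u := Additive (E ⧸ Zc D)

noncomputable instance commGroup_quot : CommGroup (E ⧸ Zc D) :=
  { (inferInstance : Group (E ⧸ Zc D)) with mul_comm := quot_comm D }

/-- The projection. -/
def cl (a : E) : V D := Additive.ofMul (QuotientGroup.mk a)

theorem cl_surj : Function.Surjective (cl D) := fun x => QuotientGroup.mk_surjective x.toMul

theorem cl_mul (a b : E) : cl D (a * b) = cl D a + cl D b := rfl

theorem cl_one : cl D 1 = 0 := rfl

theorem cl_inv (a : E) : cl D a⁻¹ = - cl D a := rfl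

theorem cl_eq_zero {a : E} : cl D a = 0 ↔ (a = 1 ∨ a = z) := QuotientGroup.eq_one_iff a

theorem add_self (x : V D) : x + x = 0 := by
  obtain ⟨a, rfl⟩ := cl_surj D x
  rw [← cl_mul, cl_eq_zero]
  exact D.sq a

theorem neg_eq (x : V D) : -x = x := neg_eq_of_add_eq_zero_left (add_self D x)

theorem cl_eq_iff {a b : E} : cl D a = cl D b ↔ (b = a ∨ b = a * z) := by
  rw [cl, cl, Additive.ofMul.injective.eq_iff, QuotientGroup.eq, mem_Zc, inv_mul_eq_one,
    inv_mul_eq_iff_eq_mul]
  exact or_congr eq_comm Iff.rfl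

/-- The action of an automorphism. -/
def act : MulAut E →* AddMonoid.End (V D) where
  toFun α := MonoidHom.toAdditive (QuotientGroup.map (Zc D) (Zc D) α.toMonoidHom fun a ha =>
    (D.center_iff α a).mpr ha)
  map_one' := AddMonoidHom.ext fun x => by
    obtain ⟨a, rfl⟩ := cl_surj D x
    rfl
  map_mul' α β := AddMonoidHom.ext fun x => by
    obtain ⟨a, rfl⟩ := cl_surj D x
    rfl

theorem act_cl (α : MulAut E) (a : E) : act D α (cl D a) = cl D (α a) := rfl

open Classical in
/-- The commutator form on representatives. -/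
noncomputable def form₀ (a b : E) : ZMod 2 := if a * b = b * a then 0 else 1

theorem form₀_spec (a b : E) :
    (form₀ a b = 0 ∧ a * b = b * a) ∨ (form₀ a b = 1 ∧ ¬ a * b = b * a) := by
  unfold form₀
  split_ifs with h
  · exact Or.inl ⟨rfl, h⟩
  · exact Or.inr ⟨rfl, h⟩

include D in
theorem form₀_mul (a a' b : E) : form₀ (a * a') b = form₀ a b + form₀ a' b := by
  have hz : ∀ x y : E, x * (z * y) = z * (x * y) := fun x y => by
    rw [← mul_assoc, ← D.central, mul_assoc]
  have hne : ∀ x : E, z * x ≠ x := fun x h => D.ne (mul_eq_right.mp h)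
  rcases form₀_spec a b with ⟨h1, h1'⟩ | ⟨h1, h1'⟩ <;>
    rcases form₀_spec a' b with ⟨h2, h2'⟩ | ⟨h2, h2'⟩ <;> rw [h1, h2]
  · rw [form₀, if_pos (by rw [mul_assoc, h2', ← mul_assoc, h1', mul_assoc]), add_zero]
  · rw [form₀, if_neg, zero_add]
    intro h
    apply h2'
    apply mul_left_cancel (a := a)
    calc a * (a' * b) = b * (a * a') := by rw [← mul_assoc, h]
      _ = a * (b * a') := by rw [← mul_assoc, ← h1', mul_assoc]
  · rw [form₀, if_neg, add_zero]
    intro h
    apply h1'
    apply mul_right_cancel (b := a')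
    calc a * b * a' = a * a' * b := by rw [mul_assoc, ← h2', ← mul_assoc]
      _ = b * a * a' := by rw [h, ← mul_assoc]
  · rw [form₀, if_pos]
    · rfl
    · rw [mul_assoc, (D.comm a' b).resolve_left h2', hz, ← mul_assoc a,
        (D.comm a b).resolve_left h1', mul_assoc z, ← mul_assoc z z, D.sq_z, one_mul, mul_assoc]

open Classical in
theorem form₀_symm (a b : E) : form₀ a b = form₀ b a := by
  unfold form₀
  exact if_congr eq_comm rfl rfl

/-- The commutator form. -/
noncomputable def form (x y : V D) : ZMod 2 :=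
  Quotient.liftOn₂' x.toMul y.toMul form₀ fun a b a' b' ha hb => by
    rw [QuotientGroup.leftRel_apply, mem_Zc] at ha hb
    have h0 : ∀ {c : E}, (c = 1 ∨ c = z) → ∀ d, form₀ c d = 0 := fun {c} hc d => by
      rw [form₀, if_pos]
      rcases hc with rfl | rfl
      · simp
      · exact D.central d
    rw [show a' = a * (a⁻¹ * a') by group, form₀_mul D, h0 ha, add_zero, form₀_symm a, form₀_symm a,
      show b' = b * (b⁻¹ * b') by group, form₀_mul D, h0 hb, add_zero]

theorem form_cl (a b : E) : form D (cl D a) (cl D b) = form₀ a b := rfl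

theorem form_add_left (x x' y : V D) : form D (x + x') y = form D x y + form D x' y := by
  obtain ⟨a, rfl⟩ := cl_surj D x
  obtain ⟨a', rfl⟩ := cl_surj D x'
  obtain ⟨b, rfl⟩ := cl_surj D y
  rw [← cl_mul]
  exact form₀_mul D a a' b

theorem form_symm (x y : V D) : form D x y = form D y x := by
  obtain ⟨a, rfl⟩ := cl_surj D x
  obtain ⟨b, rfl⟩ := cl_surj D y
  exact form₀_symm a b

theorem form_add_right (x y y' : V D) : form D x (y + y') = form D x y + form D x y' := by
  rw [form_symm, form_add_left, form_symm D y, form_symm D y']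

theorem form_nondeg {x : V D} (h : ∀ y, form D x y = 0) : x = 0 := by
  obtain ⟨a, rfl⟩ := cl_surj D x
  refine (cl_eq_zero D).mpr (D.nondeg a fun b => ?_)
  rcases form₀_spec a b with h' | h'
  · exact h'.2
  · exact absurd ((h'.1).symm.trans (h (cl D b))) one_ne_zero

open Classical in
theorem form_act (α : MulAut E) (x y : V D) : form D (act D α x) (act D α y) = form D x y := by
  obtain ⟨a, rfl⟩ := cl_surj D x
  obtain ⟨b, rfl⟩ := cl_surj D y
  show form₀ (α a) (α b) = form₀ a b
  unfold form₀
  exact if_congr (by rw [← map_mul, ← map_mul, α.injective.eq_iff]) rfl rfl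

theorem commute_of_form {a b : E} (h : form D (cl D a) (cl D b) = 0) : a * b = b * a := by
  rcases form₀_spec a b with h' | h'
  · exact h'.2
  · exact absurd (h'.1.symm.trans h) one_ne_zero

/-- Fixed classes lift. -/
theorem fixed_of_cl {K : Subgroup (MulAut E)} (hK : Odd (Nat.card K))
    (hfix : ∀ e, (∀ k ∈ K, k e = e) → e = 1 ∨ e = z) {x : V D}
    (hx : ∀ k ∈ K, act D k x = x) : x = 0 := by
  obtain ⟨a, rfl⟩ := cl_surj D x
  refine (cl_eq_zero D).mpr (hfix a fun k hk => ?_)
  rcases (cl_eq_iff D).mp (hx k hk).symm with h | h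
  · exact h
  · exfalso
    replace h : k a = a * z := h
    have hn : ∀ n : ℕ, (k ^ n) a = a * z ^ n := fun n => by
      induction n with
      | zero => simp
      | succ n ih =>
        rw [pow_succ', MulAut.mul_apply, ih, map_mul, map_pow, D.fix k, h, mul_assoc, ← pow_succ']
    obtain ⟨i, hi⟩ := hK
    have h1 := hn (2 * i + 1)
    rw [show k ^ (2 * i + 1) = 1 by
      rw [← hi]; exact congrArg Subtype.val (pow_card_eq_one' (x := (⟨k, hk⟩ : K))),
      MulAut.one_apply, pow_succ, pow_mul, pow_two, D.sq_z, one_pow, one_mul] at h1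
    exact D.ne (mul_eq_left.mp h1.symm)

end Cfsg.Agent.Lib.MagicExt.Centre
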