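import Cfsg.Agent.Lib.MagicExt.Extend
import Cfsg.Agent.Lib.Characters.Complete

/-!
# Extraspecial data and their splittings

A `Datum` is a group of exponent four with centre `{1, z}` and commutators in it.  Commuting
subgroups give tensor decompositions of its faithful representation.
-/

set_option autoImplicit false
set_option linter.unusedSectionVars false
set_option linter.style.haveILetI false

namespace Cfsg.Agent.Lib.MagicExt.Datum

open Matrix hiding mul_inv_rev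
open scoped Kronecker
open Cfsg.Agent.Lib.MagicExt.Linear Cfsg.Agent.Lib.MagicExt.Extend
open Cfsg.Agent.Lib.Characters.Basic

universe u v

variable {E : Type u} [Group E]

/-- An extraspecial two-group or the group of order two, with central involution `z`. -/
structure Dat (z : E) : Prop where
  ne : z ≠ 1
  sq_z : z * z = 1
  central : ∀ a, z * a = a * z
  comm : ∀ a b : E, a * b = b * a ∨ a * b = z * (b * a)
  sq : ∀ a : E, a * a = 1 ∨ a * a = z
  nondeg : ∀ a : E, (∀ b, a * b = b * a) → a = 1 ∨ a = z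

variable {z : E}

theorem Dat.fix (D : Dat z) (α : MulAut E) : α z = z := by
  rcases D.nondeg (α z) (fun b => by
    obtain ⟨c, rfl⟩ := α.surjective b
    rw [← map_mul, ← map_mul, D.central]) with h | h
  · exact absurd (α.injective (h.trans (map_one α).symm)) D.ne
  · exact h

theorem Dat.center_iff (D : Dat z) (α : MulAut E) (a : E) :
    (α a = 1 ∨ α a = z) ↔ (a = 1 ∨ a = z) := by
  refine or_congr ?_ ?_
  · exact ⟨fun h => α.injective (h.trans (map_one α).symm), fun h => by rw [h, map_one]⟩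
  · exact ⟨fun h => α.injective (h.trans (D.fix α).symm), fun h => by rw [h, D.fix α]⟩

/-- A nondegenerate subgroup is again a datum. -/
theorem Dat.sub (D : Dat z) (A : Subgroup E) (hz : z ∈ A)
    (hA : ∀ a ∈ A, (∀ b ∈ A, a * b = b * a) → a = 1 ∨ a = z) : Dat (⟨z, hz⟩ : A) where
  ne h := D.ne (congrArg Subtype.val h)
  sq_z := Subtype.ext D.sq_z
  central a := Subtype.ext (D.central a)
  comm a b := (D.comm a b).imp Subtype.ext Subtype.ext
  sq a := (D.sq a).imp Subtype.ext Subtype.ext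
  nondeg a h := (hA a a.2 fun b hb => congrArg Subtype.val (h ⟨b, hb⟩)).imp Subtype.ext Subtype.ext

section Rep

variable [Fintype E] {n : Type} [Fintype n] [DecidableEq n] [Nonempty n]
  {ρ : E →* Matrix n n ℂ} (D : Dat z) (hρ : Irr ρ) (hz : ρ z = -1)

include D hz in
theorem trace_eq_zero {a : E} (ha : ¬ (a = 1 ∨ a = z)) : trace (ρ a) = 0 := by
  obtain ⟨b, hb⟩ : ∃ b, ¬ a * b = b * a := by
    by_contra! h
    exact ha (D.nondeg a h)
  have h1 : b * a * b⁻¹ = z * a := by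
    have h2 : a * b = z * (b * a) := (D.comm a b).resolve_left hb
    calc b * a * b⁻¹ = z * (z * (b * a)) * b⁻¹ := by rw [← mul_assoc z z, D.sq_z, one_mul]
      _ = z * a := by rw [← h2]; group
  have h := congrArg (fun x => trace (ρ x)) h1
  simp only [map_mul] at h
  rw [trace_mul_cycle, inv_mul, one_mul, hz, neg_one_mul, trace_neg] at h
  linear_combination (1 / 2 : ℂ) * h

include D hz in
theorem trace_apply (α : MulAut E) (a : E) : trace (ρ (α a)) = trace (ρ a) := by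
  by_cases ha : a = 1 ∨ a = z
  · rcases ha with rfl | rfl
    · rw [map_one]
    · rw [D.fix α]
  · rw [trace_eq_zero D hz ha, trace_eq_zero D hz (fun h => ha ((D.center_iff α a).mp h))]

include D hρ hz in
theorem card_eq : 2 * Fintype.card n ^ 2 = Fintype.card E := by
  classical
  have h := sum_trace_mul_trace hρ
  rw [← Finset.sum_subset (Finset.subset_univ {1, z}) fun a _ ha => by
    rw [trace_eq_zero D hz (by simpa using ha), zero_mul], Finset.sum_pair (Ne.symm D.ne),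
    inv_one, map_one, inv_eq_of_mul_eq_one_right D.sq_z, hz, trace_neg, trace_one] at h
  have h2 : ((2 * Fintype.card n ^ 2 : ℕ) : ℂ) = (Fintype.card E : ℂ) := by
    rw [← h]; push_cast; ring
  exact_mod_cast h2

end Rep

/-- Every datum has a faithful irreducible representation. -/
theorem exists_faithful [Fintype E] (D : Dat z) :
    ∃ (N : ℕ) (ρ : E →* Matrix (Fin N) (Fin N) ℂ), 0 < N ∧ Irr ρ ∧ ρ z = -1 := by
  classical
  haveI := Fintype.ofFinite (Cfsg.IrrCharacter E)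
  obtain ⟨ψ, hψ⟩ : ∃ ψ : Cfsg.IrrCharacter E, (ψ : E → ℂ) z ≠ (ψ : E → ℂ) 1 := by
    by_contra! h
    have hf : Cfsg.IsClassFunction E fun g : E => if g = 1 then (1 : ℂ) else 0 := fun g k => by
      show (if k * g * k⁻¹ = 1 then (1 : ℂ) else 0) = _
      simp only [conj_eq_one_iff]
    have he := Cfsg.Agent.Lib.Characters.Complete.classFunction_eq_sum hf
    have h1 := congrFun he z
    have h2 := congrFun he 1
    simp only [Finset.sum_apply, Pi.smul_apply, h, if_neg D.ne, if_pos] at h1 h2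
    exact zero_ne_one (h1.trans h2.symm)
  obtain ⟨N, r, hr, hch⟩ := Cfsg.Agent.Lib.Characters.Basic.exists_rep ψ
  let ρ : E →* Matrix (Fin N) (Fin N) ℂ :=
    (LinearMap.toMatrixAlgEquiv' (R := ℂ) (n := Fin N)).toMonoidHom.comp r
  have hschur : ∀ f : Module.End ℂ (Fin N → ℂ), (∀ g, f * r g = r g * f) → ∃ c : ℂ, f = c • 1 := by
    intro f hf
    let F : Representation.IntertwiningMap r r := ⟨f, fun g => hf g⟩
    obtain ⟨c, hc⟩ := (Representation.IsIrreducible.algebraMap_intertwiningMap_bijective_of_isAlgClosed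
      (k := ℂ) (G := E) (V := Fin N → ℂ) (ρ := r)).2 F
    refine ⟨c, LinearMap.ext fun x => ?_⟩
    have := congrArg (fun Φ : Representation.IntertwiningMap r r => Φ.toLinearMap x) hc.symm
    have hF : F.toLinearMap x = f x := rfl
    simp only [hF] at this
    simpa using this
  have hirr : Irr ρ := fun A hA => by
    obtain ⟨c, hc⟩ := hschur (LinearMap.toMatrixAlgEquiv'.symm A) fun g => by
      apply LinearMap.toMatrixAlgEquiv'.injective
      simp only [map_mul, AlgEquiv.apply_symm_apply]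
      exact hA g
    refine ⟨c, ?_⟩
    have := congrArg (LinearMap.toMatrixAlgEquiv' (R := ℂ) (n := Fin N)) hc
    simpa only [AlgEquiv.apply_symm_apply, map_smul, map_one] using this
  have htr : ∀ g, trace (ρ g) = (ψ : E → ℂ) g := fun g => by
    rw [← hch]
    exact (LinearMap.trace_eq_matrix_trace ℂ (Pi.basisFun ℂ (Fin N)) (r g)).symm
  have hN : 0 < N := by
    refine Nat.pos_of_ne_zero fun h => apply_one_ne_zero ψ ?_
    subst h
    rw [← htr]
    simp [Matrix.trace]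
  haveI : NeZero N := ⟨hN.ne'⟩
  refine ⟨N, ρ, hN, hirr, ?_⟩
  obtain ⟨c, hc⟩ := hirr (ρ z) fun e => by rw [← map_mul, ← map_mul, D.central]
  have hcc : c * c = 1 := by
    have h : ρ z * ρ z = 1 := by rw [← map_mul, D.sq_z, map_one]
    rw [hc, smul_mul_smul_comm, one_mul] at h
    exact scalar_one h
  rcases mul_self_eq_one_iff.mp hcc with h1 | h1
  · exfalso
    apply hψ
    rw [← htr, ← htr, hc, h1, one_smul, map_one]
  · rw [hc, h1, neg_smul, one_smul]

section Pair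

variable [Fintype E] {n : Type} [Fintype n] [DecidableEq n] [Nonempty n]
  {nA nB : Type} [Fintype nA] [DecidableEq nA] [Nonempty nA] [Fintype nB] [DecidableEq nB]
  [Nonempty nB]

/-- Two commuting subgroups give a tensor decomposition. -/
theorem exists_pair {ρ : E →* Matrix n n ℂ} (D : Dat z) (hρ : Irr ρ) (hz : ρ z = -1)
    {A B : Subgroup E} (hzA : z ∈ A) (hzB : z ∈ B) (hAB : ∀ a ∈ A, ∀ b ∈ B, a * b = b * a)
    (hint : ∀ a ∈ A, a ∈ B → a = 1 ∨ a = z) (hgen : ∀ e, ∃ a ∈ A, ∃ b ∈ B, a * b = e)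
    {ρA : A →* Matrix nA nA ℂ} (hρA : Irr ρA) (hzA' : ρA ⟨z, hzA⟩ = -1)
    {ρB : B →* Matrix nB nB ℂ} (hρB : Irr ρB) (hzB' : ρB ⟨z, hzB⟩ = -1) :
    ∃ Ψ : Matrix (nA × nB) (nA × nB) ℂ ≃* Matrix n n ℂ,
      ∀ (a : A) (b : B), Ψ (ρA a ⊗ₖ ρB b) = ρ ((a : E) * b) := by
  classical
  haveI : Fintype A := Fintype.ofFinite _
  haveI : Fintype B := Fintype.ofFinite _
  have DA : Dat (⟨z, hzA⟩ : A) := D.sub A hzA fun a ha h => D.nondeg a fun e => by
    obtain ⟨a', ha', b, hb, rfl⟩ := hgen e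
    rw [← mul_assoc, h a' ha', mul_assoc, hAB a ha b hb, ← mul_assoc]
  have DB : Dat (⟨z, hzB⟩ : B) := D.sub B hzB fun b hb h => D.nondeg b fun e => by
    obtain ⟨a, ha, b', hb', rfl⟩ := hgen e
    rw [← mul_assoc, ← hAB a ha b hb, mul_assoc, h b' hb', ← mul_assoc]
  let μ : A × B →* E := A.subtype.noncommCoprod B.subtype fun a b => hAB a a.2 b b.2
  have hμ : Function.Surjective μ := fun e => by
    obtain ⟨a, ha, b, hb, rfl⟩ := hgen e
    exact ⟨(⟨a, ha⟩, ⟨b, hb⟩), rfl⟩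
  have hzinv : z⁻¹ = z := inv_eq_of_mul_eq_one_right D.sq_z
  have hker : Nat.card μ.ker = 2 := by
    have hset : ∀ p : A × B, p ∈ μ.ker → p.1 = 1 ∧ p.2 = 1 ∨ (p.1 : E) = z ∧ (p.2 : E) = z := by
      intro p hp
      have hp' : (p.1 : E) * (p.2 : E) = 1 := hp
      have hb : (p.2 : E) = (p.1 : E)⁻¹ := eq_inv_of_mul_eq_one_right hp'
      rcases hint p.1 p.1.2 (by rw [← inv_inv (p.1 : E), ← hb]; exact B.inv_mem p.2.2) with h | h
      · exact Or.inl ⟨Subtype.ext h, Subtype.ext (by rw [hb, h, inv_one]; rfl)⟩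
      · exact Or.inr ⟨h, by rw [hb, h, hzinv]⟩
    let w : μ.ker := ⟨(⟨z, hzA⟩, ⟨z, hzB⟩), D.sq_z⟩
    rw [Nat.card_eq_two_iff]
    refine ⟨1, w, fun h => D.ne ?_, ?_⟩
    · exact (congrArg (fun q : μ.ker => ((q : A × B).1 : E)) h).symm
    · refine Set.eq_univ_of_forall fun q => ?_
      rcases hset q.1 q.2 with ⟨h1, h2⟩ | ⟨h1, h2⟩
      · exact Or.inl (Subtype.ext (Prod.ext h1 h2))
      · exact Or.inr (Subtype.ext (Prod.ext (Subtype.ext h1) (Subtype.ext h2)))
  have hcard : Fintype.card A * Fintype.card B = 2 * Fintype.card E := by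
    have h := μ.ker.card_mul_index
    rw [hker, Subgroup.index_ker, MonoidHom.range_eq_top.mpr hμ, Subgroup.card_top, Nat.card_prod]
      at h
    simpa [Nat.card_eq_fintype_card] using h.symm
  have hN : Fintype.card (nA × nB) = Fintype.card n := by
    refine Nat.pow_left_injective two_ne_zero ?_
    have h1 := card_eq DA hρA hzA'
    have h2 := card_eq DB hρB hzB'
    have h3 := card_eq D hρ hz
    simp only [Fintype.card_prod]
    rw [mul_pow]
    nlinarith
  let eqv : nA × nB ≃ n := Fintype.equivOfCardEq hN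
  let Φ : Matrix (nA × nB) (nA × nB) ℂ ≃ₐ[ℂ] Matrix n n ℂ := Matrix.reindexAlgEquiv ℂ ℂ eqv
  let σ : A × B →* Matrix n n ℂ :=
    { toFun := fun p => Φ (ρA p.1 ⊗ₖ ρB p.2)
      map_one' := by simp
      map_mul' := fun p q => by
        rw [Prod.fst_mul, Prod.snd_mul, map_mul, map_mul, mul_kronecker_mul, map_mul] }
  have hirr : Irr (ρ.comp μ) := fun X hX => hρ X fun e => by
    obtain ⟨p, rfl⟩ := hμ e
    exact hX p
  have htrΦ : ∀ M, trace (Φ M) = trace M := fun M => by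
    simp only [Φ, Matrix.coe_reindexAlgEquiv, trace, diag_apply, reindex_apply, submatrix_apply]
    exact Fintype.sum_equiv eqv.symm _ _ fun i => rfl
  have htr : ∀ p, trace (σ p) = trace ((ρ.comp μ) p) := by
    rintro ⟨a, b⟩
    show trace (Φ (ρA a ⊗ₖ ρB b)) = trace (ρ ((a : E) * b))
    rw [htrΦ, trace_kronecker]
    have hzz : ∀ (s t : E), (s = 1 ∨ s = z) → (t = 1 ∨ t = z) → (s * t = 1 ∨ s * t = z) := by
      rintro s t (rfl | rfl) (rfl | rfl) <;> simp [D.sq_z]
    have hcase : ∀ s : E, (s = 1 ∨ s = z) → (s⁻¹ = 1 ∨ s⁻¹ = z) := by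
      rintro s (rfl | rfl) <;> simp [hzinv]
    by_cases ha : (a : E) = 1 ∨ (a : E) = z
    · by_cases hb : (b : E) = 1 ∨ (b : E) = z
      · rcases ha with ha | ha <;> rcases hb with hb | hb
        · rw [show a = 1 from Subtype.ext ha, show b = 1 from Subtype.ext hb]
          simp [← hN]
        · rw [show a = 1 from Subtype.ext ha, show b = ⟨z, hzB⟩ from Subtype.ext hb]
          simp [hz, hzB', ← hN]
        · rw [show a = ⟨z, hzA⟩ from Subtype.ext ha, show b = 1 from Subtype.ext hb]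
          simp [hz, hzA', ← hN]
        · rw [show a = ⟨z, hzA⟩ from Subtype.ext ha, show b = ⟨z, hzB⟩ from Subtype.ext hb]
          simp [D.sq_z, hzA', hzB', ← hN]
      · rw [trace_eq_zero DB hzB' (fun h => hb (h.imp (congrArg Subtype.val) (congrArg Subtype.val))),
          mul_zero, trace_eq_zero D hz fun h => hb (by
            have := hzz _ _ (hcase _ ha) h
            rwa [inv_mul_cancel_left] at this)]
    · rw [trace_eq_zero DA hzA' (fun h => ha (h.imp (congrArg Subtype.val) (congrArg Subtype.val))),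
        zero_mul, trace_eq_zero D hz fun h => ha ?_]
      -- `a` would lie in both factors
      have haB : (a : E) ∈ B := by
        rcases h with h | h
        · rw [eq_inv_of_mul_eq_one_left h]; exact B.inv_mem b.2
        · rw [eq_mul_inv_of_mul_eq h]; exact B.mul_mem hzB (B.inv_mem b.2)
      exact hint a a.2 haB
  obtain ⟨X, ⟨U, rfl⟩, hX⟩ := exists_intertwiner hirr htr
  refine ⟨{ toFun := fun M => (U : Matrix n n ℂ) * Φ M * ((U⁻¹ : (Matrix n n ℂ)ˣ) : Matrix n n ℂ)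
            invFun := fun M => Φ.symm (((U⁻¹ : (Matrix n n ℂ)ˣ) : Matrix n n ℂ) * M * U)
            left_inv := fun M => by simp [mul_assoc]
            right_inv := fun M => by simp [mul_assoc]
            map_mul' := fun M M' => by simp [mul_assoc] }, fun a b => ?_⟩
  show (U : Matrix n n ℂ) * σ (a, b) * _ = _
  rw [hX, mul_assoc, Units.mul_inv, mul_one]
  rfl

end Pair

section Combine

variable {T : Type v} [Group T] (φ : T →* MulAut E)

/-- Restriction of an action to an invariant subgroup. -/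
def restr (A : Subgroup E) (h : ∀ t, ∀ a ∈ A, φ t a ∈ A) : T →* MulAut A where
  toFun t :=
    { toFun := fun a => ⟨φ t a, h t a a.2⟩
      invFun := fun a => ⟨φ t⁻¹ a, h t⁻¹ a a.2⟩
      left_inv := fun a => Subtype.ext (by simp [map_inv])
      right_inv := fun a => Subtype.ext (by simp [map_inv])
      map_mul' := fun a b => Subtype.ext (map_mul (φ t) (a : E) b) }
  map_one' := MulEquiv.ext fun a => Subtype.ext (by simp)
  map_mul' s t := MulEquiv.ext fun a => Subtype.ext (by simp)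

theorem coe_restr {A : Subgroup E} (h : ∀ t, ∀ a ∈ A, φ t a ∈ A) (t : T) (a : A) :
    ((restr φ A h t a : A) : E) = φ t a := rfl

variable {φ} [Fintype E] [Finite T] {n : Type} [Fintype n] [DecidableEq n] [Nonempty n]
  {nA nB : Type} [Fintype nA] [DecidableEq nA] [Nonempty nA] [Fintype nB] [DecidableEq nB]
  [Nonempty nB]

/-- Extensions of the two factors combine. -/
theorem ext_split {ρ : E →* Matrix n n ℂ} {A B : Subgroup E}
    {ρA : A →* Matrix nA nA ℂ} {ρB : B →* Matrix nB nB ℂ}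
    (Ψ : Matrix (nA × nB) (nA × nB) ℂ ≃* Matrix n n ℂ)
    (hΨ : ∀ (a : A) (b : B), Ψ (ρA a ⊗ₖ ρB b) = ρ ((a : E) * b))
    (hgen : ∀ e, ∃ a ∈ A, ∃ b ∈ B, a * b = e) (hA : ∀ t, ∀ a ∈ A, φ t a ∈ A)
    (hB : ∀ t, ∀ b ∈ B, φ t b ∈ B) (hEA : Ext ρA (restr φ A hA)) (hEB : Ext ρB (restr φ B hB)) :
    Ext ρ φ := by
  obtain ⟨RA, hRA⟩ := hEA
  obtain ⟨RB, hRB⟩ := hEB
  refine ⟨Ψ.toMonoidHom.comp
    { toFun := fun t => RA t ⊗ₖ RB t
      map_one' := by rw [map_one, map_one, one_kronecker_one]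
      map_mul' := fun s t => by rw [map_mul, map_mul, mul_kronecker_mul] }, fun t e => ?_⟩
  obtain ⟨a, ha, b, hb, rfl⟩ := hgen e
  show Ψ (RA t ⊗ₖ RB t) * _ = _ * Ψ (RA t ⊗ₖ RB t)
  rw [← hΨ ⟨a, ha⟩ ⟨b, hb⟩, map_mul (φ t), ← hΨ ⟨_, hA t a ha⟩ ⟨_, hB t b hb⟩, ← map_mul, ← map_mul,
    ← mul_kronecker_mul, ← mul_kronecker_mul, hRA, hRB]
  rfl

/-- The permutation of the two tensor factors. -/
def swapMat (m : Type) [Fintype m] [DecidableEq m] : Matrix (m × m) (m × m) ℂ :=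
  fun i j => if i.swap = j then 1 else 0

theorem swap_mul {m : Type} [Fintype m] [DecidableEq m] (M N : Matrix m m ℂ) :
    swapMat m * (M ⊗ₖ N) = (N ⊗ₖ M) * swapMat m := by
  ext i j
  rw [Matrix.mul_apply, Matrix.mul_apply, Finset.sum_eq_single i.swap,
    Finset.sum_eq_single j.swap]
  · simp [swapMat, mul_comm]
  · intro x _ hx
    have : x.swap ≠ j := fun h => hx (by rw [← h, Prod.swap_swap])
    simp [swapMat, this]
  · simp
  · intro x _ hx
    simp [swapMat, Ne.symm hx]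
  · simp

theorem swap_sq {m : Type} [Fintype m] [DecidableEq m] : swapMat m * swapMat m = 1 := by
  ext i j
  rw [Matrix.mul_apply, Finset.sum_eq_single i.swap]
  · simp [swapMat, Matrix.one_apply]
  · intro x _ hx
    simp [swapMat, Ne.symm hx]
  · simp

/-- Two factors exchanged by an element outside a normal subgroup fixing them. -/
theorem ext_swap {ρ : E →* Matrix n n ℂ} (hρ : Irr ρ) {A B : Subgroup E}
    {ρA : A →* Matrix nA nA ℂ} (hAB : ∀ a ∈ A, ∀ b ∈ B, a * b = b * a)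
    (hgen : ∀ e, ∃ a ∈ A, ∃ b ∈ B, a * b = e) (T₁ : Subgroup T) [T₁.Normal] (t : T)
    (hgenT : ∀ s : T, s ∈ T₁ ∨ s * t⁻¹ ∈ T₁) (ht2 : t * t ∈ T₁)
    (hA : ∀ s : T₁, ∀ a ∈ A, φ s a ∈ A) (htA : ∀ a ∈ A, φ t a ∈ B) (htB : ∀ b ∈ B, φ t b ∈ A)
    (hti : ∀ b ∈ B, φ t⁻¹ b ∈ A)
    (Ψ : Matrix (nA × nA) (nA × nA) ℂ ≃* Matrix n n ℂ)
    (hΨ : ∀ (a : A) (b : B), Ψ (ρA a ⊗ₖ ρA ⟨φ t⁻¹ b, hti b b.2⟩) = ρ ((a : E) * b))
    (hEA : Ext ρA (restr (φ.comp T₁.subtype) A hA)) : Ext ρ φ := by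
  obtain ⟨RA, hRA⟩ := hEA
  have hn : ∀ s : T₁, t⁻¹ * (s : T) * t ∈ T₁ := fun s => by
    simpa using Subgroup.Normal.conj_mem (H := T₁) inferInstance (s : T) s.2 t⁻¹
  let c : T₁ →* T₁ :=
    { toFun := fun s => ⟨t⁻¹ * s * t, hn s⟩
      map_one' := Subtype.ext (by simp)
      map_mul' := fun r s => Subtype.ext (by simp [mul_assoc]) }
  let R₁ : T₁ →* Matrix n n ℂ := Ψ.toMonoidHom.comp
    { toFun := fun s => RA s ⊗ₖ RA (c s)
      map_one' := by rw [map_one, map_one, map_one, one_kronecker_one]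
      map_mul' := fun r s => by rw [map_mul, map_mul, map_mul, mul_kronecker_mul] }
  let s₂ : T₁ := ⟨t * t, ht2⟩
  have hX1 : IsUnit ((RA s₂ ⊗ₖ (1 : Matrix nA nA ℂ)) * swapMat nA) := by
    refine (IsUnit.of_mul_eq_one (RA s₂⁻¹ ⊗ₖ (1 : Matrix nA nA ℂ)) ?_).mul
      (IsUnit.of_mul_eq_one _ swap_sq)
    rw [← mul_kronecker_mul, ← map_mul, mul_inv_cancel, map_one, one_mul, one_kronecker_one]
  have hR₁ : ∀ (s : T₁) e, R₁ s * ρ e = ρ (φ s e) * R₁ s := by
    intro s e
    obtain ⟨a, ha, b, hb, rfl⟩ := hgen e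
    have hb' : φ s b ∈ B := by
      have e : φ t (φ (c s : T) (φ t⁻¹ b)) = φ (s : T) b := by
        rw [← MulAut.mul_apply, ← MulAut.mul_apply, ← map_mul, ← map_mul]
        simp [c, mul_assoc]
      exact e ▸ htA _ (hA (c s) _ (hti b hb))
    rw [← hΨ ⟨a, ha⟩ ⟨b, hb⟩, map_mul (φ s), ← hΨ ⟨_, hA s a ha⟩ ⟨_, hb'⟩]
    show Ψ _ * Ψ _ = Ψ _ * Ψ _
    rw [← map_mul, ← map_mul]
    change Ψ ((RA s ⊗ₖ RA (c s)) * _) = Ψ (_ * (RA s ⊗ₖ RA (c s)))
    rw [← mul_kronecker_mul, ← mul_kronecker_mul, hRA, hRA]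
    congr 3
    refine congrArg ρA (Subtype.ext ?_)
    show φ (c s : T) (φ t⁻¹ b) = φ t⁻¹ (φ s b)
    rw [← MulAut.mul_apply, ← MulAut.mul_apply, ← map_mul, ← map_mul]
    simp [c, mul_assoc]
  refine exists_cyclic hρ T₁ t (fun s => ?_) R₁ hR₁
    (Ψ ((RA s₂ ⊗ₖ (1 : Matrix nA nA ℂ)) * swapMat nA)) (hX1.map Ψ) (fun e => ?_) ?_
  · rcases hgenT s with h | h
    · exact ⟨0, by simpa using h⟩
    · exact ⟨1, by simpa using h⟩
  · obtain ⟨a, ha, b, hb, rfl⟩ := hgen e
    have hr : φ t ((a : E) * b) = φ t b * φ t a := by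
      rw [map_mul, hAB _ (htB b hb) _ (htA a ha)]
    rw [← hΨ ⟨a, ha⟩ ⟨b, hb⟩, hr, ← hΨ ⟨_, htB b hb⟩ ⟨_, htA a ha⟩, ← map_mul, ← map_mul]
    congr 1
    rw [mul_assoc, swap_mul, ← mul_assoc, ← mul_assoc, ← mul_kronecker_mul, ← mul_kronecker_mul,
      one_mul, mul_one, hRA]
    congr 3
    · refine congrArg ρA (Subtype.ext ?_)
      show φ (s₂ : T) (φ t⁻¹ b) = φ t b
      rw [← MulAut.mul_apply, ← map_mul]
      simp [s₂, mul_assoc]
    · refine Subtype.ext ?_
      simp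
  · intro s s' hs'
    show Ψ _ * Ψ _ = Ψ _ * Ψ _
    rw [← map_mul, ← map_mul]
    congr 1
    show (RA s₂ ⊗ₖ 1) * swapMat nA * (RA s ⊗ₖ RA (c s)) =
      (RA s' ⊗ₖ RA (c s')) * ((RA s₂ ⊗ₖ 1) * swapMat nA)
    rw [mul_assoc, swap_mul, ← mul_assoc, ← mul_assoc, ← mul_kronecker_mul, ← mul_kronecker_mul,
      one_mul, mul_one, ← map_mul, ← map_mul]
    have e1 : s₂ * c s = s' * s₂ := Subtype.ext (by simp [s₂, c, hs', mul_assoc])
    have e2 : c s' = s := Subtype.ext (by simp [c, hs', mul_assoc])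
    rw [e1, e2]

end Combine

end Cfsg.Agent.Lib.MagicExt.Datum
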