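import Cfsg.Agent.Lib.MagicExt.Linear

/-!
# Linearising projective intertwiners

For a group acting on an irreducible representation: normalisation by a determinant on the image of
an invariant idempotent, and extension over a cyclic quotient.
-/

set_option autoImplicit false
set_option linter.unusedSectionVars false

namespace Cfsg.Agent.Lib.MagicExt.Extend

open Matrix hiding mul_inv_rev
open Cfsg.Agent.Lib.MagicExt.Linear

universe u v

variable {n : Type} [Fintype n] [DecidableEq n] [Nonempty n] {E : Type u} [Group E] [Fintype E]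
  (ρ : E →* Matrix n n ℂ) {T : Type v} [Group T] (φ : T →* MulAut E)

/-- The representation extends to the semidirect product. -/
def Ext : Prop :=
  ∃ R : T →* Matrix n n ℂ, ∀ t e, R t * ρ e = ρ (φ t e) * R t

variable {ρ φ}

/-- The representation composed with an automorphism. -/
def twist (ρ : E →* Matrix n n ℂ) (a : MulAut E) : E →* Matrix n n ℂ := ρ.comp a.toMonoidHom

theorem twist_apply (a : MulAut E) (e : E) : twist ρ a e = ρ (a e) := rfl

theorem irr_twist (hρ : Irr ρ) (a : MulAut E) : Irr (twist ρ a) := fun A hA =>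
  hρ A fun e => by simpa [twist_apply] using hA (a.symm e)

/-- Intertwiners for one automorphism differ by scalars. -/
theorem scalar_of (hρ : Irr ρ) {a : MulAut E} {X Y : Matrix n n ℂ} (hY : IsUnit Y)
    (hX' : ∀ e, X * ρ e = ρ (a e) * X) (hY' : ∀ e, Y * ρ e = ρ (a e) * Y) :
    ∃ c : ℂ, X = c • Y :=
  exists_scalar (irr_twist hρ a) hY hX' hY'

/-- An intertwiner exists when the automorphism fixes the traces. -/
theorem exists_X (hρ : Irr ρ) (a : MulAut E) (htr : ∀ e, trace (ρ (a e)) = trace (ρ e)) :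
    ∃ X : Matrix n n ℂ, IsUnit X ∧ ∀ e, X * ρ e = ρ (a e) * X :=
  exists_intertwiner (irr_twist hρ a) fun e => (htr e).symm

theorem scalar_one {c : ℂ} (h : c • (1 : Matrix n n ℂ) = 1) : c = 1 := by
  have := congrFun (congrFun h (Classical.arbitrary n)) (Classical.arbitrary n)
  simpa using this

theorem smul_inj {X : Matrix n n ℂ} (hX : IsUnit X) {a b : ℂ} (h : a • X = b • X) : a = b := by
  obtain ⟨X, rfl⟩ := hX
  have h1 := congrArg (fun Z => Z * ((X⁻¹ : (Matrix n n ℂ)ˣ) : Matrix n n ℂ)) h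
  simp only [smul_mul_assoc, Units.mul_inv] at h1
  have := congrFun (congrFun h1 (Classical.arbitrary n)) (Classical.arbitrary n)
  simpa using this

theorem isUnit_hom (R : T →* Matrix n n ℂ) (t : T) : IsUnit (R t) := (Group.isUnit t).map R

/-- Two linearisations with the same normalised determinant agree. -/
theorem hom_unique [Finite T] (hρ : Irr ρ) {P : Matrix n n ℂ} {m : ℕ} (F : Fact' P m)
    (hco : Nat.Coprime m (Nat.card T)) {R R' : T →* Matrix n n ℂ}
    (hR : ∀ t e, R t * ρ e = ρ (φ t e) * R t) (hR' : ∀ t e, R' t * ρ e = ρ (φ t e) * R' t)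
    (hd : ∀ t, F.dt (R t) = 1) (hd' : ∀ t, F.dt (R' t) = 1) : R' = R := by
  choose μ hμ using fun t => scalar_of hρ (isUnit_hom R t) (hR' t) (hR t)
  have hone : μ 1 = 1 := by
    have h := hμ 1
    rw [map_one, map_one] at h
    exact scalar_one h.symm
  let ν : T →* ℂ :=
    { toFun := μ, map_one' := hone
      map_mul' := fun s t => smul_inj (isUnit_hom R (s * t)) <| by
        rw [← hμ, map_mul, hμ, hμ, smul_mul_assoc, mul_smul_comm, smul_smul, map_mul] }
  refine MonoidHom.ext fun t => ?_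
  have h1 : μ t ^ m = 1 := by
    have := hd' t
    rwa [hμ, Fact'.dt_smul, hd, mul_one] at this
  have h2 : μ t ^ Nat.card T = 1 := by
    show ν t ^ Nat.card T = 1
    rw [← map_pow, pow_card_eq_one', map_one]
  have h3 : μ t = 1 := by
    rw [← orderOf_eq_one_iff]
    exact Nat.eq_one_of_dvd_one (hco ▸ Nat.dvd_gcd (orderOf_dvd_of_pow_eq_one h1)
      (orderOf_dvd_of_pow_eq_one h2))
  rw [hμ, h3, one_smul]

/-- **Normalisation**: intertwiners linearise when an invariant idempotent has rank prime to the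
order of the group. -/
theorem exists_normalised [Finite T] (hρ : Irr ρ)
    (htr : ∀ t e, trace (ρ (φ t e)) = trace (ρ e)) {P : Matrix n n ℂ} {m : ℕ} (F : Fact' P m)
    (hm : 0 < m) (hco : Nat.Coprime m (Nat.card T))
    (hP : ∀ (t : T) (X : Matrix n n ℂ), IsUnit X → (∀ e, X * ρ e = ρ (φ t e) * X) →
      X * P = P * X) :
    ∃ R : T →* Matrix n n ℂ, (∀ t e, R t * ρ e = ρ (φ t e) * R t) ∧ ∀ t, F.dt (R t) = 1 := by
  classical
  haveI := Fintype.ofFinite T
  choose X hXu hX using fun t => exists_X hρ (φ t) (htr t)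
  -- normalise the determinants
  have hd0 : ∀ t, F.dt (X t) ≠ 0 := fun t h0 => by
    obtain ⟨U, hU⟩ := hXu t
    have h1 := F.dt_mul (Y := ((U⁻¹ : (Matrix n n ℂ)ˣ) : Matrix n n ℂ)) (hP t _ (hXu t) (hX t))
    rw [h0, zero_mul, ← hU, Units.mul_inv, F.dt_one] at h1
    exact one_ne_zero h1
  choose a ha using fun t => IsAlgClosed.exists_pow_nat_eq (F.dt (X t))⁻¹ hm
  have ha0 : ∀ t, a t ≠ 0 := fun t h => inv_ne_zero (hd0 t) (by rw [← ha, h, zero_pow hm.ne'])
  set Y : T → Matrix n n ℂ := fun t => a t • X t with hY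
  have hYu : ∀ t, IsUnit (Y t) := fun t => by
    rw [hY, isUnit_iff_isUnit_det, det_smul]
    exact ((Ne.isUnit (ha0 t)).pow _).mul ((isUnit_iff_isUnit_det _).mp (hXu t))
  have hYi : ∀ t e, Y t * ρ e = ρ (φ t e) * Y t := fun t e => by
    simp only [hY, smul_mul_assoc, mul_smul_comm, hX]
  have hYd : ∀ t, F.dt (Y t) = 1 := fun t => by
    simp only [hY, F.dt_smul, ha, inv_mul_cancel₀ (hd0 t)]
  -- the cocycle
  have hprod : ∀ s t e, Y s * Y t * ρ e = ρ (φ (s * t) e) * (Y s * Y t) := fun s t e => by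
    rw [mul_assoc, hYi, ← mul_assoc, hYi, mul_assoc, map_mul]
    rfl
  choose c hc using fun s t => scalar_of hρ (hYu (s * t)) (hprod s t) (hYi (s * t))
  have hcm : ∀ s t, c s t ^ m = 1 := fun s t => by
    have h := congrArg F.dt (hc s t)
    rw [F.dt_smul, F.dt_mul (hP s _ (hYu s) (hYi s)), hYd, hYd, hYd, one_mul, mul_one] at h
    exact h.symm
  have hco1 : ∀ r s t, c r s * c (r * s) t = c s t * c r (s * t) := fun r s t =>
    smul_inj (hYu (r * s * t)) <| by
      rw [mul_smul, ← hc (r * s) t, ← smul_mul_assoc, ← hc, mul_smul, mul_assoc r s t,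
        ← hc r (s * t), ← mul_smul_comm, ← hc, mul_assoc]
  set f : T → ℂ := fun t => ∏ s, c t s with hf
  have hfm : ∀ t, f t ^ m = 1 := fun t => by
    simp only [hf, ← Finset.prod_pow, hcm, Finset.prod_const_one]
  have hff : ∀ r s, c r s ^ Fintype.card T * f (r * s) = f s * f r := fun r s => by
    simp only [hf]
    rw [← Finset.card_univ, ← Finset.prod_const, ← Finset.prod_mul_distrib,
      Fintype.prod_equiv (Equiv.refl T) (fun t => c r s * c (r * s) t)
        (fun t => c s t * c r (s * t)) (fun t => hco1 r s t), Finset.prod_mul_distrib]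
    congr 1
    exact Fintype.prod_equiv (Equiv.mulLeft s) _ _ fun t => rfl
  obtain ⟨b, hb⟩ : ∃ b : ℕ, m ∣ 1 + Fintype.card T * b := by
    haveI : NeZero m := ⟨hm.ne'⟩
    refine ⟨(-((Fintype.card T : ZMod m)⁻¹)).val, (ZMod.natCast_eq_zero_iff _ _).mp ?_⟩
    rw [Nat.cast_add, Nat.cast_mul, Nat.cast_one, ZMod.natCast_zmod_val, mul_neg,
      ZMod.coe_mul_inv_eq_one _ (by rw [← Nat.card_eq_fintype_card]; exact hco.symm), add_neg_cancel]
  have hfac : ∀ r s, f r ^ b * f s ^ b * c r s = f (r * s) ^ b := fun r s => by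
    rw [← mul_pow, mul_comm (f r), ← hff, mul_pow, ← pow_mul, mul_right_comm, ← pow_succ]
    obtain ⟨q, hq⟩ := hb
    rw [show Fintype.card T * b + 1 = m * q by omega, pow_mul, hcm, one_pow, one_mul]
  let R₀ : T → Matrix n n ℂ := fun t => f t ^ b • Y t
  have hmul : ∀ r s, R₀ (r * s) = R₀ r * R₀ s := fun r s => by
    simp only [R₀, smul_mul_assoc, mul_smul_comm, smul_smul, hc, hfac]
    rw [← mul_assoc, mul_comm (f s ^ b), hfac]
  have hone : R₀ 1 = 1 := by
    have hu : IsUnit (R₀ 1) := by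
      have hf0 : f 1 ^ b ≠ 0 := pow_ne_zero _ fun h0 => by
        have := hfm 1; rw [h0, zero_pow hm.ne'] at this; exact zero_ne_one this
      simp only [R₀]
      rw [isUnit_iff_isUnit_det, det_smul]
      exact ((Ne.isUnit hf0).pow _).mul ((isUnit_iff_isUnit_det _).mp (hYu 1))
    have h := hmul 1 1
    rw [one_mul] at h
    exact (hu.mul_eq_left.mp h.symm)
  refine ⟨⟨⟨R₀, hone⟩, hmul⟩, fun t e => ?_, fun t => ?_⟩
  · simp only [MonoidHom.coe_mk, OneHom.coe_mk, R₀, smul_mul_assoc, mul_smul_comm, hYi]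
  · simp only [MonoidHom.coe_mk, OneHom.coe_mk, R₀, F.dt_smul, hYd, ← pow_mul, mul_one]
    rw [mul_comm b, pow_mul, hfm, one_pow]

/-- **Extension over a cyclic quotient**. -/
theorem exists_cyclic [Finite T] (hρ : Irr ρ) (T₁ : Subgroup T) [T₁.Normal] (t : T)
    (hgen : ∀ s : T, ∃ i : ℕ, s * (t ^ i)⁻¹ ∈ T₁) (R₁ : T₁ →* Matrix n n ℂ)
    (hR₁ : ∀ (s : T₁) e, R₁ s * ρ e = ρ (φ s e) * R₁ s) (X : Matrix n n ℂ) (hXu : IsUnit X)
    (hX : ∀ e, X * ρ e = ρ (φ t e) * X)
    (hnorm : ∀ s s' : T₁, (s' : T) = t * s * t⁻¹ → X * R₁ s = R₁ s' * X) : Ext ρ φ := by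
  classical
  -- the order of `t` modulo `T₁`
  set m := orderOf (t : T ⧸ T₁) with hmdef
  have hm : 0 < m := orderOf_pos _
  have htm : t ^ m ∈ T₁ := by
    rw [← QuotientGroup.eq_one_iff, QuotientGroup.mk_pow, hmdef, pow_orderOf_eq_one]
  have hXpow : ∀ (i : ℕ) (e : E), X ^ i * ρ e = ρ (φ (t ^ i) e) * X ^ i := by
    intro i
    induction i with
    | zero => intro e; simp
    | succ i ih =>
      intro e
      rw [pow_succ, mul_assoc, hX, ← mul_assoc, ih, mul_assoc, pow_succ, map_mul]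
      rfl
  obtain ⟨c, hc⟩ := scalar_of hρ (isUnit_hom R₁ ⟨t ^ m, htm⟩) (hXpow m) (hR₁ ⟨t ^ m, htm⟩)
  have hc0 : c ≠ 0 := fun h => by
    rw [h, zero_smul] at hc
    exact (hXu.pow m).ne_zero hc
  obtain ⟨a, ha⟩ := IsAlgClosed.exists_pow_nat_eq c⁻¹ hm
  set Z : Matrix n n ℂ := a • X with hZ
  have hZm : Z ^ m = R₁ ⟨t ^ m, htm⟩ := by
    rw [hZ, smul_pow, ha, hc, smul_smul, inv_mul_cancel₀ hc0, one_smul]
  have hZpow : ∀ (i : ℕ) (e : E), Z ^ i * ρ e = ρ (φ (t ^ i) e) * Z ^ i := fun i e => by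
    rw [hZ, smul_pow, smul_mul_assoc, hXpow, mul_smul_comm]
  have hZnorm : ∀ (i : ℕ) (s s' : T₁), (s' : T) = t ^ i * s * (t ^ i)⁻¹ →
      Z ^ i * R₁ s = R₁ s' * Z ^ i := by
    intro i
    induction i with
    | zero =>
      intro s s' h
      rw [show s' = s from Subtype.ext (by simpa using h), pow_zero, one_mul, mul_one]
    | succ i ih =>
      intro s s' h
      let r : T₁ := ⟨t * s * t⁻¹, Subgroup.Normal.conj_mem inferInstance _ s.2 t⟩
      have h1 : Z * R₁ s = R₁ r * Z := by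
        rw [hZ, smul_mul_assoc, hnorm s r rfl, mul_smul_comm]
      rw [pow_succ, mul_assoc, h1, ← mul_assoc, ih r s' (by rw [h, pow_succ]; simp only [r]; group),
        mul_assoc]
  -- well defined
  have hwd : ∀ (i j : ℕ) (s s' : T₁), (s : T) * t ^ i = (s' : T) * t ^ j →
      R₁ s * Z ^ i = R₁ s' * Z ^ j := by
    intro i j
    wlog hij : i ≤ j generalizing i j
    · intro s s' h
      exact (this j i (le_of_not_ge hij) s' s h.symm).symm
    intro s s' h
    obtain ⟨d, rfl⟩ := Nat.exists_eq_add_of_le hij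
    rw [add_comm i, pow_add, ← mul_assoc] at h
    have hd : t ^ d ∈ T₁ := by
      have h1 := mul_right_cancel h
      rw [show t ^ d = (s' : T)⁻¹ * s by rw [h1]; group]
      exact T₁.mul_mem (T₁.inv_mem s'.2) s.2
    obtain ⟨q, rfl⟩ : m ∣ d := by
      rw [hmdef, orderOf_dvd_iff_pow_eq_one, ← QuotientGroup.mk_pow, QuotientGroup.eq_one_iff]
      exact hd
    rw [add_comm i, pow_add, ← mul_assoc, pow_mul, hZm, ← map_pow, ← map_mul]
    congr 2
    refine Subtype.ext ?_
    rw [Subgroup.coe_mul, SubmonoidClass.coe_pow, ← pow_mul]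
    exact mul_right_cancel h
  choose ind hind using hgen
  let R₀ : T → Matrix n n ℂ := fun s => R₁ ⟨s * (t ^ ind s)⁻¹, hind s⟩ * Z ^ ind s
  have hval : ∀ (i : ℕ) (s : T₁), R₀ ((s : T) * t ^ i) = R₁ s * Z ^ i := fun i s =>
    hwd _ _ _ _ (by simp)
  have hdec : ∀ s : T, ∃ (s₁ : T₁) (i : ℕ), (s₁ : T) * t ^ i = s := fun s =>
    ⟨⟨_, hind s⟩, ind s, inv_mul_cancel_right _ _⟩
  refine ⟨⟨⟨R₀, ?_⟩, fun r s => ?_⟩, fun s e => ?_⟩
  · have := hval 0 1
    simpa using this
  · obtain ⟨r₁, i, rfl⟩ := hdec r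
    obtain ⟨s₁, j, rfl⟩ := hdec s
    let r₂ : T₁ := ⟨t ^ i * s₁ * (t ^ i)⁻¹, Subgroup.Normal.conj_mem inferInstance _ s₁.2 _⟩
    have h1 : (r₁ : T) * t ^ i * ((s₁ : T) * t ^ j) = ((r₁ * r₂ : T₁) : T) * t ^ (i + j) := by
      simp only [Subgroup.coe_mul, r₂, pow_add]; group
    show R₀ _ = R₀ _ * R₀ _
    rw [h1, hval, hval, hval, map_mul, pow_add, mul_assoc (R₁ r₁) (Z ^ i), ← mul_assoc (Z ^ i),
      hZnorm i s₁ r₂ rfl]
    simp only [mul_assoc]
  · obtain ⟨s₁, i, rfl⟩ := hdec s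
    show R₀ _ * _ = _ * R₀ _
    rw [hval, mul_assoc, hZpow, ← mul_assoc, hR₁, mul_assoc, map_mul]
    rfl

/-- The extension does not depend on the representation within its class. -/
theorem ext_congr (hρ : Irr ρ) {σ : E →* Matrix n n ℂ}
    (htr : ∀ e, trace (σ e) = trace (ρ e)) (h : Ext σ φ) : Ext ρ φ := by
  obtain ⟨R, hR⟩ := h
  obtain ⟨X, ⟨U, rfl⟩, hX⟩ := exists_intertwiner hρ htr
  have hX' : ∀ e, ρ e = (U : Matrix n n ℂ) * σ e * ((U⁻¹ : (Matrix n n ℂ)ˣ) : Matrix n n ℂ) :=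
    fun e => by rw [hX, mul_assoc, Units.mul_inv, mul_one]
  let R' : T →* Matrix n n ℂ :=
    { toFun := fun t => (U : Matrix n n ℂ) * R t * ((U⁻¹ : (Matrix n n ℂ)ˣ) : Matrix n n ℂ)
      map_one' := by rw [map_one, mul_one, Units.mul_inv]
      map_mul' := fun r s => by
        simp only [map_mul, mul_assoc, Units.inv_mul_cancel_left] }
  refine ⟨R', fun t e => ?_⟩
  show (U : Matrix n n ℂ) * R t * _ * ρ e = ρ (φ t e) * ((U : Matrix n n ℂ) * R t * _)
  rw [hX' e, hX' (φ t e)]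
  simp only [mul_assoc, Units.inv_mul_cancel_left]
  rw [← mul_assoc (R t), hR, mul_assoc]

end Cfsg.Agent.Lib.MagicExt.Extend
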