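import Cfsg.Agent.Lib.MagicExt.Cases

/-!
# Lifting to the group

Invariant complements of the centre over isotropic summands and invariant lifts of isometries.
-/

set_option autoImplicit false
set_option linter.unusedSectionVars false
set_option linter.style.haveILetI false

namespace Cfsg.Agent.Lib.MagicExt.Lift

open Cfsg.Agent.Lib.MagicExt.Datum Cfsg.Agent.Lib.MagicExt.Centre Cfsg.Agent.Lib.MagicExt.Ring

universe u

variable {E : Type u} [Group E] [Finite E] {z : E} (D : Dat z) (K : Subgroup (MulAut E))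

/-- No fixed points outside the centre. -/
def Free : Prop := Odd (Nat.card K) ∧ ∀ e, (∀ k ∈ K, k e = e) → e = 1 ∨ e = z

include D in
theorem pow_four (a : E) : a ^ 2 ^ 2 = 1 := by
  rcases D.sq a with h | h
  · rw [pow_succ, pow_one, pow_mul, pow_two a, h, one_pow]
  · rw [pow_succ, pow_one, pow_mul, pow_two a, h, pow_two, D.sq_z]

/-- The preimage of the image of an idempotent. -/
def pre (f : R D K) : Subgroup E where
  carrier := {a | (f : AddMonoid.End (V D)) (cl D a) = cl D a}
  one_mem' := map_zero _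
  mul_mem' := fun {a b} ha hb => by
    show (f : AddMonoid.End (V D)) (cl D (a * b)) = cl D (a * b)
    rw [cl_mul, map_add, ha, hb]
  inv_mem' := fun {a} ha => by
    show (f : AddMonoid.End (V D)) (cl D a⁻¹) = cl D a⁻¹
    rw [cl_inv, map_neg, ha]

variable {D K}

theorem mem_pre {f : R D K} {a : E} :
    a ∈ pre D K f ↔ (f : AddMonoid.End (V D)) (cl D a) = cl D a := Iff.rfl

theorem z_mem_pre (f : R D K) : z ∈ pre D K f := by
  rw [mem_pre, (cl_eq_zero D).mpr (Or.inr rfl), map_zero]

theorem K_pre (f : R D K) {k : MulAut E} (hk : k ∈ K) {a : E} (ha : a ∈ pre D K f) :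
    k a ∈ pre D K f := by
  rw [mem_pre] at ha ⊢
  rw [← act_cl]
  show ((f : AddMonoid.End (V D)) * act D k) (cl D a) = act D k (cl D a)
  rw [mem_comm_act D K f.2 hk]
  show act D k ((f : AddMonoid.End (V D)) (cl D a)) = _
  rw [ha]

theorem comm_pre {f : R D K} (hff : f * f = f) (hs : starHom D K f = 1 - f) {a b : E}
    (ha : a ∈ pre D K f) (hb : b ∈ pre D K f) : a * b = b * a := by
  apply commute_of_form D
  rw [← mem_pre.mp ha, star'_spec D K f, ← mem_pre.mp hb]
  have h0 : starHom D K f * f = 0 := by rw [hs, sub_mul, one_mul, hff, sub_self]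
  show form D _ (((starHom D K f * f : R D K) : AddMonoid.End (V D)) (cl D b)) = 0
  rw [h0]
  exact form_zero_right D _

/-- An invariant complement of the centre in the preimage of a summand. -/
structure IsCompl' (f : R D K) (W : Subgroup E) : Prop where
  le : W ≤ pre D K f
  not_z : z ∉ W
  gen : ∀ a ∈ pre D K f, a ∈ W ∨ a * z ∈ W
  inv : ∀ k ∈ K, ∀ a ∈ W, k a ∈ W

theorem IsCompl'.eq_one {f : R D K} {W : Subgroup E} (h : IsCompl' f W) {a : E} (ha : a ∈ W)
    (h0 : a = 1 ∨ a = z) : a = 1 :=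
  h0.resolve_right fun hz => h.not_z (hz ▸ ha)

theorem exists_compl {f : R D K} (hK : Free (z := z) K) (hff : f * f = f)
    (hs : starHom D K f = 1 - f) :
    ∃ W, IsCompl' f W ∧ ∀ W', IsCompl' f W' → W' = W := by
  classical
  let A := pre D K f
  letI : CommGroup A :=
    { (inferInstance : Group A) with mul_comm := fun a b => Subtype.ext (comm_pre hff hs a.2 b.2) }
  let ψ : K →* MulAut A := restr K.subtype A fun k a ha => K_pre f k.2 ha
  have hfix : ∀ a : A, (∀ k, ψ k a = a) → a = 1 ∨ a = ⟨z, z_mem_pre f⟩ := fun a ha =>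
    (hK.2 a fun k hk => congrArg Subtype.val (ha ⟨k, hk⟩)).imp Subtype.ext Subtype.ext
  obtain ⟨χ, hinv, hχz, hval, huniq⟩ := exists_sign_char ψ hK.1 (j := 2)
    (fun a : A => Subtype.ext (by simpa using pow_four D (a : E))) hfix
    (fun h => D.ne (congrArg Subtype.val h)) (Subtype.ext D.sq_z)
    (fun k => Subtype.ext (D.fix (k : MulAut E)))
  refine ⟨χ.ker.map A.subtype, ⟨?_, ?_, ?_, ?_⟩, fun W' hW' => ?_⟩
  · rintro _ ⟨a, -, rfl⟩
    exact a.2
  · rintro ⟨a, ha, haz⟩
    rw [show a = ⟨z, z_mem_pre f⟩ from Subtype.ext haz] at ha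
    have := hχz.symm.trans ha
    norm_num at this
  · intro a ha
    rcases hval ⟨a, ha⟩ with h | h
    · exact Or.inl ⟨⟨a, ha⟩, h, rfl⟩
    · refine Or.inr ⟨⟨a, ha⟩ * ⟨z, z_mem_pre f⟩, ?_, rfl⟩
      show χ _ = 1
      rw [map_mul, h, hχz, neg_mul_neg, one_mul]
  · rintro k hk _ ⟨a, ha, rfl⟩
    exact ⟨ψ ⟨k, hk⟩ a, (hinv _ a).trans ha, rfl⟩
  · have hdich : ∀ a : A, ¬ (a : E) ∈ W' → (a : E) * z ∈ W' := fun a h =>
      (hW'.gen a a.2).resolve_left h
    let χ' : A →* ℂ :=
      { toFun := fun a => if (a : E) ∈ W' then 1 else -1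
        map_one' := by simp [W'.one_mem]
        map_mul' := fun a b => by
          by_cases ha : (a : E) ∈ W' <;> by_cases hb : (b : E) ∈ W'
          · simp [ha, hb, W'.mul_mem ha hb]
          · simp [ha, hb, W'.mul_mem_cancel_left ha]
          · simp [ha, hb, W'.mul_mem_cancel_right hb]
          · have h : (a : E) * b ∈ W' := by
              have := W'.mul_mem (hdich a ha) (hdich b hb)
              rwa [show (a : E) * z * (b * z) = a * b by
                rw [mul_assoc, ← mul_assoc z, D.central, mul_assoc (b : E), D.sq_z, mul_one]]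
                at this
            simp [ha, hb, h] }
    have hχ' : χ' = χ := by
      refine huniq χ' (fun k a => ?_) ?_
      · show (if (k : MulAut E) a ∈ W' then (1 : ℂ) else -1) = if (a : E) ∈ W' then 1 else -1
        refine if_congr ⟨fun h => ?_, fun h => hW'.inv k k.2 _ h⟩ rfl rfl
        simpa using hW'.inv ((k : MulAut E)⁻¹) (K.inv_mem k.2) _ h
      · show (if z ∈ W' then (1 : ℂ) else -1) = -1
        rw [if_neg hW'.not_z]
    ext a
    constructor
    · intro ha
      refine ⟨⟨a, hW'.le ha⟩, ?_, rfl⟩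
      show χ _ = 1
      rw [← hχ']
      exact if_pos ha
    · rintro ⟨b, hb, rfl⟩
      by_contra hb'
      have h1 : χ b = 1 := hb
      have h2 : χ' b = -1 := if_neg hb'
      rw [← hχ', h2] at h1
      norm_num at h1

/-- Normalising automorphisms transport complements. -/
theorem compl_comap {f g : R D K} {α : MulAut E} (hα : ∀ k ∈ K, α * k * α⁻¹ ∈ K)
    (hfg : cj D K hα f = g) {W : Subgroup E} (hW : IsCompl' g W) :
    IsCompl' f (W.comap α.toMonoidHom) := by
  have hmem : ∀ a, a ∈ pre D K f ↔ α a ∈ pre D K g := fun a => by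
    rw [mem_pre, mem_pre, ← hfg]
    show _ ↔ act D α ((f : AddMonoid.End (V D)) (act D α⁻¹ (cl D (α a)))) = cl D (α a)
    rw [act_cl, MulAut.inv_apply_self]
    constructor
    · intro h; rw [h, act_cl]
    · intro h
      have := congrArg (act D α⁻¹) h
      rw [act_cl, MulAut.inv_apply_self] at this
      rwa [show act D α⁻¹ (act D α ((f : AddMonoid.End (V D)) (cl D a))) =
        (act D α⁻¹ * act D α) ((f : AddMonoid.End (V D)) (cl D a)) from rfl, ← map_mul,
        inv_mul_cancel, map_one] at this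
  refine ⟨fun a ha => (hmem a).mpr (hW.le ha), fun h => hW.not_z (D.fix α ▸ h), fun a ha => ?_,
    fun k hk a ha => ?_⟩
  · refine (hW.gen _ ((hmem a).mp ha)).imp (fun h => h) fun h => ?_
    show α (a * z) ∈ W
    rwa [map_mul, D.fix]
  · show α (k a) ∈ W
    have := hW.inv _ (hα k hk) _ (show α a ∈ W from ha)
    simpa [mul_assoc] using this

variable (K)

/-- Automorphisms commuting with `K` are determined by their action on the module. -/
theorem eq_of_act (hK : Free (z := z) K) {β γ : MulAut E} (hβ : ∀ k ∈ K, β * k = k * β)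
    (hγ : ∀ k ∈ K, γ * k = k * γ) (h : act D β = act D γ) : β = γ := by
  classical
  set δ := γ⁻¹ * β with hδ
  suffices hδ1 : ∀ a, δ a = a by
    refine MulEquiv.ext fun a => ?_
    calc β a = γ (δ a) := by simp [hδ]
      _ = γ a := by rw [hδ1]
  have hact : act D δ = 1 := by rw [hδ, map_mul, h, ← map_mul, inv_mul_cancel, map_one]
  have hk : ∀ k ∈ K, δ * k = k * δ := fun k hk => by
    have h1 : Commute γ⁻¹ k := (Commute.inv_left (hγ k hk : Commute γ k))
    exact ((h1.mul_left (hβ k hk : Commute β k))).eq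
  have hd : ∀ a, δ a = a ∨ δ a = a * z := fun a => (cl_eq_iff D).mp (by
    rw [← act_cl, hact]; rfl : cl D (δ a) = cl D a).symm
  have hmul : ∀ a b, δ (a * b) = a * b ↔ (δ a = a ↔ δ b = b) := fun a b => by
    have hne : ∀ x : E, x * z ≠ x := fun x hx => D.ne (mul_eq_left.mp hx)
    rw [map_mul]
    rcases hd a with ha | ha <;> rcases hd b with hb | hb <;>
      simp only [ha, hb, hne, iff_true, iff_false, true_iff, false_iff, not_false_iff]
    · rw [← mul_assoc]; simp [hne]
    · rw [mul_assoc a, D.central, ← mul_assoc]; simp [hne]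
    · rw [show a * z * (b * z) = a * b by
        rw [mul_assoc, ← mul_assoc z, D.central, mul_assoc b, D.sq_z, mul_one]]
  let ε : E →* ℂ :=
    { toFun := fun a => if δ a = a then 1 else -1
      map_one' := by simp
      map_mul' := fun a b => by
        by_cases ha : δ a = a <;> by_cases hb : δ b = b <;> simp [-map_mul, hmul, ha, hb] }
  have hεZ : Zc D ≤ ε.ker := by
    rintro a (rfl | rfl)
    · exact map_one ε
    · exact if_pos (D.fix δ)
  let ψ : K →* MulAut (E ⧸ Zc D) :=
    { toFun := fun k => QuotientGroup.congr (Zc D) (Zc D) (k : MulAut E) (by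
        ext a
        constructor
        · rintro ⟨b, hb, rfl⟩
          exact (D.center_iff _ b).mpr hb
        · intro ha
          exact ⟨(k : MulAut E)⁻¹ a, (D.center_iff _ a).mpr ha, by simp⟩)
      map_one' := MulEquiv.ext fun x => by
        induction x using QuotientGroup.induction_on with
        | H a => rfl
      map_mul' := fun k l => MulEquiv.ext fun x => by
        induction x using QuotientGroup.induction_on with
        | H a => rfl }
  have htriv := char_trivial ψ (z := (1 : E ⧸ Zc D)) hK.1 (j := 2)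
    (fun x => by
      induction x using QuotientGroup.induction_on with
      | H a => rw [← QuotientGroup.mk_pow, pow_four D a, QuotientGroup.mk_one])
    (fun x hx => by
      induction x using QuotientGroup.induction_on with
      | H a =>
        refine Or.inl ((QuotientGroup.eq_one_iff a).mpr ((cl_eq_zero D).mp
          (fixed_of_cl D hK.1 hK.2 (x := cl D a) fun k hk => ?_)))
        exact congrArg Additive.ofMul (hx ⟨k, hk⟩))
    (χ := QuotientGroup.lift (Zc D) ε hεZ)
    (fun k x => by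
      induction x using QuotientGroup.induction_on with
      | H a =>
        show ε ((k : MulAut E) a) = ε a
        refine if_congr ?_ rfl rfl
        show (δ * (k : MulAut E)) a = (k : MulAut E) a ↔ _
        rw [hk k k.2]
        exact (k : MulAut E).injective.eq_iff) (map_one _)
  intro a
  have h1 : ε a = 1 := htriv (QuotientGroup.mk a)
  by_contra hne
  have h2 : ε a = -1 := if_neg hne
  rw [h2] at h1
  norm_num at h1

/-- An isometry commuting with `K` lifts. -/
theorem exists_lift (hK : Free (z := z) K) (u : R D K) (hu : u * starHom D K u = 1) :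
    ∃ β : MulAut E, (∀ k ∈ K, β * k = k * β) ∧ act D β = (u : AddMonoid.End (V D)) := by
  classical
  let U : AddMonoid.End (V D) := (u : AddMonoid.End (V D))
  have hUinj : Function.Injective U := fun x y hxy => by
    have h : ∀ w, ((starHom D K u * u : R D K) : AddMonoid.End (V D)) w = w := fun w => by
      rw [mul_comm, hu]; rfl
    rw [← h x, ← h y]
    show (starHom D K u : R D K).1 (U x) = (starHom D K u : R D K).1 (U y)
    rw [hxy]
  have hform : ∀ x y, form D (U x) (U y) = form D x y := fun x y => by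
    rw [star'_spec D K u]
    show form D x (((starHom D K u * u : R D K) : AddMonoid.End (V D)) y) = _
    rw [mul_comm, hu]
    rfl
  let Γ : Subgroup (E × E) :=
    { carrier := {p | U (cl D p.1) = cl D p.2}
      one_mem' := map_zero U
      mul_mem' := fun {p q} hp hq => by
        show U (cl D (p.1 * q.1)) = cl D (p.2 * q.2)
        rw [cl_mul, cl_mul, map_add, hp, hq]
      inv_mem' := fun {p} hp => by
        show U (cl D p.1⁻¹) = cl D p.2⁻¹
        rw [cl_inv, cl_inv, map_neg, hp] }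
  let Δ : Subgroup Γ :=
    { carrier := {p | ((p : E × E).1 = 1 ∧ (p : E × E).2 = 1) ∨ ((p : E × E).1 = z ∧ (p : E × E).2 = z)}
      one_mem' := Or.inl ⟨rfl, rfl⟩
      mul_mem' := by
        rintro p q (⟨h1, h2⟩ | ⟨h1, h2⟩) (⟨h3, h4⟩ | ⟨h3, h4⟩) <;>
          simp [h1, h2, h3, h4, D.sq_z]
      inv_mem' := by
        rintro p (⟨h1, h2⟩ | ⟨h1, h2⟩) <;>
          simp [h1, h2, inv_eq_of_mul_eq_one_right D.sq_z] }
  haveI : Δ.Normal := ⟨fun p hp g => by
    rcases hp with ⟨h1, h2⟩ | ⟨h1, h2⟩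
    · refine Or.inl ⟨?_, ?_⟩ <;> simp [h1, h2]
    · refine Or.inr ⟨?_, ?_⟩ <;> simp [h1, h2, ← D.central]⟩
  have hmemΔ : ∀ (a b : E × E) (ha : a ∈ Γ) (hb : b ∈ Γ),
      ((⟨b, hb⟩ : Γ)⁻¹ * ⟨a, ha⟩ ∈ Δ) ↔
        (a.1 = b.1 ∧ a.2 = b.2) ∨ (a.1 = b.1 * z ∧ a.2 = b.2 * z) := fun a b ha hb => by
    show (b.1⁻¹ * a.1 = 1 ∧ b.2⁻¹ * a.2 = 1) ∨ (b.1⁻¹ * a.1 = z ∧ b.2⁻¹ * a.2 = z) ↔ _
    simp only [inv_mul_eq_iff_eq_mul, mul_one]
  have hcomm : ∀ x y : Γ ⧸ Δ, x * y = y * x := fun x y => by
    induction x using QuotientGroup.induction_on with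
    | H p =>
      induction y using QuotientGroup.induction_on with
      | H q =>
        obtain ⟨⟨a, b⟩, hp⟩ := p
        obtain ⟨⟨a', b'⟩, hq⟩ := q
        have hp' : U (cl D a) = cl D b := hp
        have hq' : U (cl D a') = cl D b' := hq
        have hf : form₀ b' b = form₀ a' a := by
          rw [← form_cl D, ← hq', ← hp', hform, form_cl]
        rw [← QuotientGroup.mk_mul, ← QuotientGroup.mk_mul, QuotientGroup.eq]
        refine (hmemΔ (a' * a, b' * b) (a * a', b * b') _ _).mpr ?_
        have hz : ∀ x y : E, ¬ x * y = y * x → x * y = y * x * z := fun x y h => by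
          rw [(D.comm x y).resolve_left h, D.central]
        rcases form₀_spec a' a with ⟨h1, h1'⟩ | ⟨h1, h1'⟩ <;>
          rcases form₀_spec b' b with ⟨h2, h2'⟩ | ⟨h2, h2'⟩
        · exact Or.inl ⟨h1', h2'⟩
        · exact absurd (h2.symm.trans (hf.trans h1)) one_ne_zero
        · exact absurd (h1.symm.trans (hf.symm.trans h2)) one_ne_zero
        · exact Or.inr ⟨hz _ _ h1', hz _ _ h2'⟩
  letI : CommGroup (Γ ⧸ Δ) := { (inferInstance : Group (Γ ⧸ Δ)) with mul_comm := hcomm }
  have hKΓ : ∀ (k : K) (p : E × E), p ∈ Γ → ((k : MulAut E) p.1, (k : MulAut E) p.2) ∈ Γ :=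
    fun k p hp => by
      show U (cl D _) = cl D _
      rw [← act_cl, ← act_cl, ← (hp : U (cl D p.1) = cl D p.2)]
      show ((u : AddMonoid.End (V D)) * act D (k : MulAut E)) _ = _
      rw [mem_comm_act D K u.2 k.2]
      rfl
  let kΓ : K → (Γ →* Γ) := fun k =>
    { toFun := fun p => ⟨((k : MulAut E) (p : E × E).1, (k : MulAut E) (p : E × E).2), hKΓ k p p.2⟩
      map_one' := Subtype.ext (Prod.ext (map_one _) (map_one _))
      map_mul' := fun p q => Subtype.ext (Prod.ext (map_mul _ _ _) (map_mul _ _ _)) }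
  have hkΔ : ∀ k, Δ ≤ Δ.comap (kΓ k) := fun k p hp => by
    rcases hp with ⟨h1, h2⟩ | ⟨h1, h2⟩
    · exact Or.inl ⟨by simp [kΓ, h1], by simp [kΓ, h2]⟩
    · exact Or.inr ⟨by simp [kΓ, h1, D.fix], by simp [kΓ, h2, D.fix]⟩
  let kq : K → (Γ ⧸ Δ →* Γ ⧸ Δ) := fun k => QuotientGroup.map Δ Δ (kΓ k) (hkΔ k)
  have hkq : ∀ k l x, kq k (kq l x) = kq (k * l) x := fun k l x => by
    induction x using QuotientGroup.induction_on with
    | H p => rfl
  have hk1 : ∀ x, kq 1 x = x := fun x => by
    induction x using QuotientGroup.induction_on with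
    | H p => rfl
  let ψ : K →* MulAut (Γ ⧸ Δ) :=
    { toFun := fun k =>
        { toFun := kq k
          invFun := kq k⁻¹
          left_inv := fun x => by rw [hkq, inv_mul_cancel, hk1]
          right_inv := fun x => by rw [hkq, mul_inv_cancel, hk1]
          map_mul' := map_mul _ }
      map_one' := MulEquiv.ext hk1
      map_mul' := fun k l => MulEquiv.ext fun x => (hkq k l x).symm }
  have hz1 : ((z, (1 : E)) : E × E) ∈ Γ := by
    show U (cl D z) = cl D 1
    rw [(cl_eq_zero D).mpr (Or.inr rfl), map_zero]; rfl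
  set zΓ : Γ ⧸ Δ := QuotientGroup.mk ⟨(z, 1), hz1⟩ with hzΓ
  obtain ⟨χ, hinv, hχz, hval, -⟩ := exists_sign_char ψ hK.1 (j := 2) (z := zΓ)
    (fun x => by
      induction x using QuotientGroup.induction_on with
      | H p =>
        rw [← QuotientGroup.mk_pow, show p ^ 2 ^ 2 = 1 from
          Subtype.ext (Prod.ext (pow_four D (p : E × E).1) (pow_four D (p : E × E).2)),
          QuotientGroup.mk_one])
    (fun x hx => by
      induction x using QuotientGroup.induction_on with
      | H p =>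
        obtain ⟨⟨a, b⟩, hp⟩ := p
        have hcl : cl D a = 0 := fixed_of_cl D hK.1 hK.2 fun k hk => by
          rw [act_cl]
          have h1 := QuotientGroup.eq.mp (hx ⟨k, hk⟩).symm
          rcases (hmemΔ _ _ _ _).mp h1 with ⟨h, -⟩ | ⟨h, -⟩
          · exact congrArg (cl D) h
          · replace h : k a = a * z := h
            rw [h, cl_mul, (cl_eq_zero D).mpr (Or.inr rfl), add_zero]
        have hb0 : cl D b = 0 := by rw [← (hp : U (cl D a) = cl D b), hcl, map_zero]
        rcases (cl_eq_zero D).mp hcl with rfl | rfl <;> rcases (cl_eq_zero D).mp hb0 with rfl | rfl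
        · exact Or.inl rfl
        · refine Or.inr (QuotientGroup.eq.mpr ((hmemΔ _ _ _ _).mpr (Or.inr ⟨?_, ?_⟩)))
          · simp
          · simp [D.sq_z]
        · exact Or.inr rfl
        · refine Or.inl ((QuotientGroup.eq_one_iff _).mpr (Or.inr ⟨rfl, rfl⟩)))
    (fun h => by
      rcases (QuotientGroup.eq_one_iff _).mp h with ⟨h, -⟩ | ⟨-, h⟩
      · exact D.ne h
      · exact D.ne h.symm)
    (by
      rw [hzΓ, ← QuotientGroup.mk_mul]
      exact (QuotientGroup.eq_one_iff _).mpr (Or.inl ⟨D.sq_z, one_mul 1⟩))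
    (fun k => by
      refine congrArg QuotientGroup.mk (Subtype.ext (Prod.ext ?_ ?_))
      · exact D.fix (k : MulAut E)
      · exact map_one (k : MulAut E))
  let χΓ : Γ →* ℂ := χ.comp (QuotientGroup.mk' Δ)
  have hex : ∀ a : E, ∃ b : E, ∃ h : (a, b) ∈ Γ, χΓ ⟨(a, b), h⟩ = 1 := fun a => by
    obtain ⟨b, hb⟩ := cl_surj D (U (cl D a))
    have hΓ : (a, b) ∈ Γ := hb.symm
    have hzb : cl D (b * z) = cl D b := by
      rw [cl_mul, (cl_eq_zero D).mpr (Or.inr rfl), add_zero]
    rcases hval (QuotientGroup.mk ⟨(a, b), hΓ⟩) with h | h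
    · exact ⟨b, hΓ, h⟩
    · have hΓ' : (a, b * z) ∈ Γ := hb.symm.trans hzb.symm
      refine ⟨b * z, hΓ', ?_⟩
      have he : (QuotientGroup.mk ⟨(a, b * z), hΓ'⟩ : Γ ⧸ Δ) =
          QuotientGroup.mk ⟨(a, b), hΓ⟩ * zΓ := by
        rw [hzΓ, ← QuotientGroup.mk_mul]
        refine QuotientGroup.eq.mpr ((hmemΔ _ _ _ _).mpr (Or.inr ⟨rfl, ?_⟩))
        show b * 1 = b * z * z
        rw [mul_assoc, D.sq_z]
      show χ _ = 1
      rw [QuotientGroup.mk'_apply, he, map_mul, h, hχz, neg_mul_neg, one_mul]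
  choose β hβΓ hβ using hex
  have huniq : ∀ (a b : E) (h : (a, b) ∈ Γ), χΓ ⟨(a, b), h⟩ = 1 → b = β a := fun a b h h1 => by
    rcases (cl_eq_iff D).mp ((hβΓ a).symm.trans h : cl D (β a) = cl D b) with h2 | h2
    · exact h2
    · exfalso
      have he : (QuotientGroup.mk ⟨(a, b), h⟩ : Γ ⧸ Δ) =
          QuotientGroup.mk ⟨(a, β a), hβΓ a⟩ * zΓ := by
        rw [hzΓ, ← QuotientGroup.mk_mul]
        refine QuotientGroup.eq.mpr ((hmemΔ _ _ _ _).mpr (Or.inr ⟨rfl, ?_⟩))
        show β a * 1 = b * z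
        rw [h2, mul_assoc, D.sq_z]
      have h3 : χΓ ⟨(a, b), h⟩ = -1 := by
        show χ _ = -1
        have h4 : χ (QuotientGroup.mk ⟨(a, β a), hβΓ a⟩) = 1 := hβ a
        rw [QuotientGroup.mk'_apply, he, map_mul, h4, hχz, one_mul]
      rw [h1] at h3
      norm_num at h3
  have hmulβ : ∀ a a', β (a * a') = β a * β a' := fun a a' =>
    (huniq _ _ (Γ.mul_mem (hβΓ a) (hβΓ a')) (by
      show χΓ (⟨(a, β a), hβΓ a⟩ * ⟨(a', β a'), hβΓ a'⟩) = 1
      rw [map_mul, hβ, hβ, one_mul])).symm
  let βh : E →* E := MonoidHom.mk' β hmulβ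
  have hcl : ∀ a, cl D (β a) = U (cl D a) := fun a => (hβΓ a).symm
  have hβz : β z = z := by
    refine (huniq z z ?_ ?_).symm
    · show U (cl D z) = cl D z
      rw [(cl_eq_zero D).mpr (Or.inr rfl), map_zero]
    · show χ _ = 1
      rw [QuotientGroup.mk'_apply, (QuotientGroup.eq_one_iff _).mpr (Or.inr ⟨rfl, rfl⟩), map_one]
  have hinj : Function.Injective βh := by
    refine (injective_iff_map_eq_one βh).mpr fun a ha => ?_
    have h0 : U (cl D a) = U 0 := by
      rw [map_zero, ← hcl]
      exact (cl_eq_zero D).mpr (Or.inl ha)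
    rcases (cl_eq_zero D).mp (hUinj h0) with rfl | rfl
    · rfl
    · exact absurd (hβz.symm.trans ha) D.ne
  let βe : MulAut E := MulEquiv.ofBijective βh (Finite.injective_iff_bijective.mp hinj)
  refine ⟨βe, fun k hk => MulEquiv.ext fun a => ?_, AddMonoidHom.ext fun x => ?_⟩
  · show β (k a) = k (β a)
    exact (huniq _ _ (hKΓ ⟨k, hk⟩ _ (hβΓ a))
      ((hinv ⟨k, hk⟩ (QuotientGroup.mk ⟨(a, β a), hβΓ a⟩)).trans (hβ a))).symm
  · obtain ⟨a, rfl⟩ := cl_surj D x
    exact hcl a

end Cfsg.Agent.Lib.MagicExt.Lift
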