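import Cfsg.Agent.Lib.MagicExt.Rational
import Cfsg.Agent.Lib.MagicExt.Lift

/-!
# The field configuration
-/

set_option autoImplicit false
set_option linter.unusedSectionVars false
set_option linter.style.haveILetI false

namespace Cfsg.Agent.Lib.MagicExt.Field

open Matrix hiding mul_inv_rev
open Cfsg.Agent.Lib.MagicExt.Linear Cfsg.Agent.Lib.MagicExt.Extend
open Cfsg.Agent.Lib.MagicExt.Spectral Cfsg.Agent.Lib.MagicExt.Rational
open Cfsg.Agent.Lib.MagicExt.Datum Cfsg.Agent.Lib.MagicExt.Centre Cfsg.Agent.Lib.MagicExt.Ring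
open Cfsg.Agent.Lib.MagicExt.Cases Cfsg.Agent.Lib.MagicExt.Lift

universe u v

variable {n : Type} [Fintype n] [DecidableEq n] [Nonempty n] {E : Type u} [Group E] [Fintype E]
  {z : E} {ρ : E →* Matrix n n ℂ} {T : Type v} [Group T] [Finite T] {φ : T →* MulAut E}

theorem pow_intertwine {X : Matrix n n ℂ} {a : MulAut E} (h : ∀ e, X * ρ e = ρ (a e) * X) :
    ∀ (k : ℕ) (e : E), X ^ k * ρ e = ρ ((a ^ k) e) * X ^ k
  | 0, e => by simp
  | k + 1, e => by
    rw [pow_succ, mul_assoc, h, ← mul_assoc, pow_intertwine h k, mul_assoc, pow_succ,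
      MulAut.mul_apply]

theorem mul_intertwine {X Y : Matrix n n ℂ} {a b : MulAut E} (h : ∀ e, X * ρ e = ρ (a e) * X)
    (h' : ∀ e, Y * ρ e = ρ (b e) * Y) (e : E) : X * Y * ρ e = ρ ((a * b) e) * (X * Y) := by
  rw [mul_assoc, h', ← mul_assoc, h, mul_assoc, MulAut.mul_apply]

/-- An isometry of odd prime order without fixed points gives the extension. -/
theorem ext_field (D : Dat z) (hρ : Irr ρ) (hz : ρ z = -1) (hT : IsPGroup 2 T)
    {β : MulAut E} {q : ℕ} (hq : q.Prime) (hq2 : q ≠ 2) (hβ : β ^ q = 1)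
    (hfree : ∀ x : V D, act D β x = x → x = 0) (hnt : ∃ a : E, ¬ (a = 1 ∨ a = z))
    (hnorm : ∀ t, ∃ j : ℕ, φ t * β * (φ t)⁻¹ = β ^ j) : Ext ρ φ := by
  classical
  haveI := Fact.mk hq
  haveI : NeZero q := ⟨hq.ne_zero⟩
  haveI := Fintype.ofFinite T
  obtain ⟨a2, ha2⟩ := IsPGroup.iff_card.mp hT
  have hdT : Nat.Coprime (Nat.card T) q := by
    rw [ha2]
    exact Nat.Coprime.pow_left _ ((Nat.coprime_primes Nat.prime_two hq).mpr (Ne.symm hq2))
  have hβ1 : β ≠ 1 := fun h => by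
    obtain ⟨a, ha⟩ := hnt
    exact ha ((cl_eq_zero D).mp (hfree (cl D a) (by rw [h, map_one]; rfl)))
  have hord : orderOf β = q := orderOf_eq_prime hβ hβ1
  choose j hj using hnorm
  have hjq : ∀ t, ¬ q ∣ j t := fun t h => by
    refine hβ1 ?_
    have h1 := hj t
    obtain ⟨c, hc⟩ := h
    rw [hc, pow_mul, hβ, one_pow, mul_inv_eq_one] at h1
    simpa using h1
  -- elements commuting with `β` give fixed point free products with its powers
  have hfix : ∀ (b : MulAut E) (l : ℕ), b ^ Nat.card T = 1 → b * β = β * b → ¬ q ∣ l →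
      ∀ e, e * ((b * β ^ l) e)⁻¹ = 1 ∨ e * ((b * β ^ l) e)⁻¹ = z → e = 1 ∨ e = z := by
    intro b l hb hbc hl e he
    refine (cl_eq_zero D).mp (hfree _ ?_)
    have h1 : act D (b * β ^ l) (cl D e) = cl D e := by
      rw [act_cl]
      have := (cl_eq_zero D).mpr he
      rw [cl_mul, cl_inv, ← sub_eq_add_neg, sub_eq_zero] at this
      exact this.symm
    have hk : ∀ (c : MulAut E), act D c (cl D e) = cl D e →
        ∀ k : ℕ, act D (c ^ k) (cl D e) = cl D e := fun c hc k => by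
      induction k with
      | zero => rw [pow_zero, map_one]; rfl
      | succ k ih =>
        rw [pow_succ, map_mul]
        show act D (c ^ k) (act D c (cl D e)) = _
        rw [hc, ih]
    have h2 := hk _ h1 (Nat.card T)
    rw [((Commute.pow_right hbc l) : Commute b (β ^ l)).mul_pow, hb, one_mul, ← pow_mul] at h2
    obtain ⟨c, hc⟩ : ∃ c, l * Nat.card T * c ≡ 1 [MOD q] := by
      have hnd : ((l * Nat.card T : ℕ) : ZMod q) ≠ 0 := fun h => by
        rw [ZMod.natCast_eq_zero_iff, hq.dvd_mul] at h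
        exact h.elim hl fun h => hq.ne_one (Nat.eq_one_of_dvd_coprimes hdT h dvd_rfl)
      refine ⟨((l * Nat.card T : ℕ) : ZMod q)⁻¹.val, ?_⟩
      rw [← ZMod.natCast_eq_natCast_iff, Nat.cast_mul, Nat.cast_one, ZMod.natCast_zmod_val,
        mul_inv_cancel₀ hnd]
    have h3 := hk _ h2 c
    rwa [← pow_mul, pow_eq_pow_mod _ hβ, hc, Nat.one_mod_eq_one.mpr hq.ne_one, pow_one] at h3
  -- the normalised intertwiner of `β`
  obtain ⟨X₀, hX₀u, hX₀⟩ := exists_X hρ β fun e => trace_apply D hz _ e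
  obtain ⟨c₀, hc₀⟩ := scalar_of hρ (a := β ^ q) (Y := 1) isUnit_one
    (pow_intertwine hX₀ q) (fun e => by rw [hβ, one_mul, mul_one]; rfl)
  have hc00 : c₀ ≠ 0 := fun h => (hX₀u.pow q).ne_zero (by rw [hc₀, h, zero_smul])
  obtain ⟨r, hr⟩ := IsAlgClosed.exists_pow_nat_eq c₀⁻¹ hq.pos
  set X₁ := r • X₀ with hX₁def
  have hX₁q : X₁ ^ q = 1 := by rw [hX₁def, smul_pow, hr, hc₀, smul_smul, inv_mul_cancel₀ hc00, one_smul]
  have hX₁ : ∀ e, X₁ * ρ e = ρ (β e) * X₁ := fun e => by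
    rw [hX₁def, smul_mul_assoc, mul_smul_comm, hX₀]
  have hunit : ∀ {X : Matrix n n ℂ}, X ^ q = 1 → IsUnit X := fun {X} h => by
    refine IsUnit.of_mul_eq_one (X ^ (q - 1)) ?_
    rw [← pow_succ', Nat.sub_add_cancel hq.one_le, h]
  set τ := trace X₁ with hτ
  set τ' := trace (X₁ ^ (q - 1)) with hτ'
  have hττ : τ * τ' = 1 := by
    refine trace_mul_trace_inv D hρ hz β (fun e he => ?_) hX₁
      (by rw [← pow_succ', Nat.sub_add_cancel hq.one_le, hX₁q])
    exact hfix 1 1 (one_pow _) (by rw [one_mul, mul_one]) (fun h => hq.ne_one (Nat.dvd_one.mp h)) e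
      (by rwa [one_mul, pow_one])
  have hτi : IsIntegral ℤ τ := isIntegral_trace hX₁q
  have hτi' : IsIntegral ℤ τ' :=
    isIntegral_trace (D := q) (by rw [← pow_mul, mul_comm, pow_mul, hX₁q, one_pow])
  obtain ⟨c₁, hc₁, hrt₁⟩ := exists_rt D hρ hz β (hunit hX₁q) hX₁
  obtain ⟨w, hw⟩ : ∃ w : ℚ, (w : ℂ) = τ ^ q := by
    have h1 : (c₁ * τ) ^ q ∈ Kq := by
      refine pow_mem ?_ q
      have := hrt₁.tr
      rwa [trace_smul, smul_eq_mul] at this
    have h2 : c₁ ^ q * (Fintype.card n : ℂ) ∈ Kq := by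
      have := (Rt.pow D hρ hz hrt₁ q).tr
      rwa [smul_pow, hX₁q, trace_smul, trace_one, smul_eq_mul] at this
    have h3 : τ ^ q = (c₁ * τ) ^ q / (c₁ ^ q * (Fintype.card n : ℂ)) * (Fintype.card n : ℂ) := by
      have hn0 : (Fintype.card n : ℂ) ≠ 0 := Nat.cast_ne_zero.mpr Fintype.card_ne_zero
      have hcq : c₁ ^ q ≠ 0 := pow_ne_zero _ hc₁
      rw [mul_pow]
      field_simp
    exact RingHom.mem_fieldRange.mp (h3 ▸ mul_mem (div_mem h1 h2) (natCast_mem _ _))
  have hs : w = 1 ∨ w = -1 :=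
    rat_unit (hτi.pow q) (hτi'.pow q) hw (by rw [← mul_pow, hττ, one_pow])
  set s : ℂ := (w : ℂ) with hsdef
  have hsq : s ^ q = s := by
    rcases hs with h | h <;> simp [hsdef, h, (hq.odd_of_ne_two hq2).neg_one_pow]
  have hs0 : s ≠ 0 := by rcases hs with h | h <;> simp [hsdef, h]
  have hτ0 : τ ≠ 0 := left_ne_zero_of_mul_eq_one hττ
  set Q := (s / τ) • X₁ with hQdef
  have hQq : Q ^ q = 1 := by
    rw [hQdef, smul_pow, hX₁q, div_pow, hsq, ← hw, div_self hs0, one_smul]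
  have hQ : ∀ e, Q * ρ e = ρ (β e) * Q := fun e => by
    rw [hQdef, smul_mul_assoc, mul_smul_comm, hX₁]
  have hQtr : trace Q = s := by
    rw [hQdef, trace_smul, smul_eq_mul, ← hτ, div_mul_cancel₀ _ hτ0]
  have hsK : s ∈ Kq := RingHom.mem_fieldRange.mpr ⟨w, rfl⟩
  have hQrt : Rt ρ Q := by
    obtain ⟨c, hc, hcr⟩ := exists_rt D hρ hz β (hunit hQq) hQ
    have h1 := hcr.tr
    rw [trace_smul, smul_eq_mul, hQtr] at h1
    have hcK : c ∈ Kq := by
      have := div_mem h1 hsK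
      rwa [mul_div_assoc, div_self hs0, mul_one] at this
    intro e
    have h2 := div_mem (hcr e) hcK
    rwa [Matrix.smul_mul, trace_smul, smul_eq_mul, mul_div_cancel_left₀ _ hc] at h2
  -- traces along the powers of `Q`
  have hconst : ∀ (b : MulAut E) (S : Matrix n n ℂ), S ^ Nat.card T = 1 →
      (∀ e, S * ρ e = ρ (b e) * S) → S * Q = Q * S → b ^ Nat.card T = 1 → b * β = β * b →
      ∀ l, ¬ q ∣ l → trace (S * Q ^ l) = trace (S * Q) := by
    intro b S hS hSi hSQ hb hbc l hl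
    haveI : NeZero (Nat.card T) := ⟨Nat.card_pos.ne'⟩
    obtain ⟨c, hc, hcr⟩ := exists_rt D hρ hz b
      (IsUnit.of_mul_eq_one (S ^ (Nat.card T - 1))
        (by rw [← pow_succ', Nat.sub_add_cancel Nat.card_pos, hS])) hSi
    refine trace_const hq hq2 hS hQq hSQ (fun l hl => ?_) hc (fun l => ?_) hl
    · refine trace_mul_trace_inv D hρ hz (b * β ^ l) (hfix b l hb hbc hl)
        (mul_intertwine hSi (pow_intertwine hQ l)) ?_
      rw [← pow_succ', Nat.sub_add_cancel (Nat.mul_pos Nat.card_pos hq.pos),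
        ((Commute.pow_right hSQ l) : Commute S (Q ^ l)).mul_pow, pow_mul, hS, one_pow, one_mul,
        ← pow_mul Q, show l * (Nat.card T * q) = q * (l * Nat.card T) by ring, pow_mul, hQq, one_pow]
    · have := (Rt.mul hρ hcr (Rt.pow D hρ hz hQrt l)).tr
      rwa [Matrix.smul_mul, trace_smul, smul_eq_mul] at this
  have hQl : ∀ l, ¬ q ∣ l → trace (Q ^ l) = s := fun l hl => by
    have := hconst 1 1 (one_pow _) (fun e => by rw [one_mul, mul_one]; rfl) (by rw [one_mul, mul_one])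
      (one_pow _) (by rw [one_mul, mul_one]) l hl
    rwa [one_mul, one_mul, hQtr] at this
  -- intertwiners move `Q` to its powers
  have hmove : ∀ (t : T) (i : ℕ), φ t * β * (φ t)⁻¹ = β ^ i → ¬ q ∣ i →
      ∀ X : Matrix n n ℂ, IsUnit X → (∀ e, X * ρ e = ρ (φ t e) * X) → X * Q = Q ^ i * X := by
    intro t i hi hiq X hXu hX
    obtain ⟨U, rfl⟩ := hXu
    set Y : Matrix n n ℂ := ((U⁻¹ : (Matrix n n ℂ)ˣ) : Matrix n n ℂ) with hY
    have hYi : ∀ e, Y * ρ e = ρ ((φ t)⁻¹ e) * Y := fun e => by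
      have h1 := hX ((φ t)⁻¹ e)
      rw [MulAut.apply_inv_self] at h1
      calc Y * ρ e = Y * (ρ e * (U : Matrix n n ℂ)) * Y := by
            simp only [hY, mul_assoc, Units.mul_inv, mul_one]
        _ = _ := by rw [← h1, ← mul_assoc, hY, Units.inv_mul, one_mul]
    have hC : ∀ e, (U : Matrix n n ℂ) * Q * Y * ρ e =
        ρ ((β ^ i) e) * ((U : Matrix n n ℂ) * Q * Y) := fun e => by
      rw [← hi]; exact mul_intertwine (mul_intertwine hX hQ) hYi e
    obtain ⟨c, hc⟩ := scalar_of hρ ((hunit hQq).pow i) hC (pow_intertwine hQ i)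
    have h1 : trace ((U : Matrix n n ℂ) * Q * Y) = s := by
      rw [trace_mul_cycle, hY, Units.inv_mul, one_mul, hQtr]
    rw [hc, trace_smul, hQl i hiq, smul_eq_mul] at h1
    rw [mul_left_eq_self₀.mp h1 |>.resolve_right hs0, one_smul] at hc
    rw [← hc, hY, mul_assoc, Units.inv_mul, mul_one]
  -- the multiplicity
  have hζ := Complex.isPrimitiveRoot_exp q hq.ne_zero
  set ζ := Complex.exp (2 * Real.pi * Complex.I / q) with hζdef
  obtain ⟨m, ⟨F⟩⟩ := exists_mult hQq hζ.pow_eq_one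
  have hN : 2 ∣ Fintype.card n := by
    have h2 := card_eq D hρ hz
    obtain ⟨a, ha⟩ := hnt
    have hsub : ({1, z, a} : Finset E).card ≤ Fintype.card E := Finset.card_le_univ _
    rw [Finset.card_insert_of_notMem (by simp [Ne.symm D.ne, Ne.symm (fun h => ha (Or.inl h))]),
      Finset.card_insert_of_notMem (by simp [Ne.symm (fun h => ha (Or.inr h))]),
      Finset.card_singleton] at hsub
    have hP : IsPGroup 2 E := fun g => ⟨2, pow_four D g⟩
    obtain ⟨k, hk⟩ := IsPGroup.iff_card.mp hP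
    rw [Nat.card_eq_fintype_card, ← h2] at hk
    obtain ⟨i, -, hi⟩ := (Nat.dvd_prime_pow Nat.prime_two).mp
      (show Fintype.card n ∣ 2 ^ k from ⟨2 * Fintype.card n, by rw [← hk]; ring⟩)
    rcases Nat.eq_zero_or_pos i with rfl | hi0
    · rw [hi] at h2; simp at h2; omega
    · exact hi ▸ dvd_pow_self 2 hi0.ne'
  have hsum : ∀ (S : Matrix n n ℂ), (∀ l, ¬ q ∣ l → trace (S * Q ^ l) = trace (S * Q)) →
      ∀ η : ℂ, η ^ q = 1 → η ≠ 1 →
        trace (S * eig q Q η) = (q : ℂ)⁻¹ * (trace S - trace (S * Q)) := by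
    intro S hS η hη hη1
    simp only [eig, proj, Matrix.mul_smul, trace_smul, Finset.mul_sum, trace_sum, smul_pow,
      smul_eq_mul]
    rw [← Finset.mul_sum, ← Finset.add_sum_erase _ _ (Finset.mem_univ (0 : ZMod q))]
    congr 1
    rw [ZMod.val_zero, pow_zero, pow_zero, one_mul, mul_one, sub_eq_add_neg]
    congr 1
    rw [Finset.sum_congr rfl (g := fun k : ZMod q => η⁻¹ ^ k.val * trace (S * Q)) fun k hk => by
      rw [hS]
      intro h
      exact (Finset.mem_erase.mp hk).1 ((ZMod.val_eq_zero k).mp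
        (Nat.eq_zero_of_dvd_of_lt h k.val_lt))]
    rw [← Finset.sum_mul]
    have hg : ∑ k : ZMod q, η⁻¹ ^ k.val = 0 := by
      have hne : η⁻¹ ≠ 1 := fun h => hη1 (inv_eq_one.mp h)
      have hg := geom_sum_eq hne q
      rw [inv_pow, hη, inv_one, sub_self, zero_div] at hg
      rw [← hg]
      exact Finset.sum_nbij' (fun i => i.val) (fun j => (j : ZMod q))
        (fun i _ => Finset.mem_range.mpr i.val_lt) (fun j _ => Finset.mem_univ _)
        (fun i _ => ZMod.natCast_zmod_val i)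
        (fun j hj => ZMod.val_natCast_of_lt (Finset.mem_range.mp hj)) fun i _ => rfl
    rw [← Finset.add_sum_erase _ _ (Finset.mem_univ (0 : ZMod q)), ZMod.val_zero, pow_zero] at hg
    rw [eq_neg_of_add_eq_zero_right hg, neg_one_mul]
  have hmval : (q : ℤ) * m = Fintype.card n - w.num := by
    have h := hsum 1 (fun l hl => by rw [one_mul, one_mul, hQl l hl, hQtr]) ζ hζ.pow_eq_one
      (hζ.ne_one hq.one_lt)
    rw [one_mul, one_mul, F.trace_eq, trace_one, hQtr] at h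
    have hwn : (w.num : ℂ) = s := by rcases hs with h' | h' <;> simp [hsdef, h']
    have h' : (((q : ℤ) * m : ℤ) : ℂ) = ((Fintype.card n - w.num : ℤ) : ℂ) := by
      push_cast
      rw [h, hwn, ← mul_assoc, mul_inv_cancel₀ (Nat.cast_ne_zero.mpr hq.ne_zero), one_mul]
    exact_mod_cast h'
  have hmodd : Odd m := by
    obtain ⟨k, hk⟩ := hN
    have hodd : Odd ((q : ℤ) * m) := by
      rw [hmval, hk]
      rcases hs with h | h <;> simp [h, parity_simps]
    exact_mod_cast (Int.odd_mul.mp hodd).2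
  have hm0 : 0 < m := hmodd.pos
  -- the centraliser
  let T₀ : Subgroup T := (Subgroup.centralizer ({β} : Set (MulAut E))).comap φ
  have hT₀ : ∀ {t}, t ∈ T₀ ↔ φ t * β = β * φ t := fun {t} => by
    rw [Subgroup.mem_comap, Subgroup.mem_centralizer_singleton_iff]
  haveI : T₀.Normal := ⟨fun r hr t => hT₀.mpr (by
    have h1 := hj t⁻¹
    rw [map_inv, inv_inv] at h1
    have h2 : Commute (φ r) (β ^ j t⁻¹) := Commute.pow_right (hT₀.mp hr) _
    rw [map_mul, map_mul, map_inv]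
    calc φ t * φ r * (φ t)⁻¹ * β = φ t * φ r * ((φ t)⁻¹ * β * φ t) * (φ t)⁻¹ := by group
      _ = φ t * (φ r * β ^ j t⁻¹) * (φ t)⁻¹ := by rw [h1]; group
      _ = φ t * (((φ t)⁻¹ * β * φ t) * φ r) * (φ t)⁻¹ := by rw [h2.eq, h1]
      _ = β * (φ t * φ r * (φ t)⁻¹) := by group)⟩
  have hcop : Nat.Coprime m (Nat.card T₀) := by
    obtain ⟨k, hk⟩ := IsPGroup.iff_card.mp (hT.to_subgroup T₀)
    rw [hk]
    exact Nat.Coprime.pow_right _ (Nat.coprime_two_right.mpr hmodd)
  have hcommQ : ∀ (r : T₀) (X : Matrix n n ℂ), IsUnit X → (∀ e, X * ρ e = ρ (φ r e) * X) →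
      X * Q = Q * X := fun r X hXu hX => by
    have := hmove r 1 (by rw [pow_one, hT₀.mp r.2, mul_inv_cancel_right])
      (fun h => hq.ne_one (Nat.dvd_one.mp h)) X hXu hX
    rwa [pow_one] at this
  obtain ⟨R, hR, hRd⟩ := exists_normalised (φ := φ.comp T₀.subtype) hρ
    (fun t e => trace_apply D hz _ e) F hm0 hcop
    (fun r X hXu hX => commute_proj (by rw [mul_smul_comm, smul_mul_assoc, hcommQ r X hXu hX]))
  have hRQ : ∀ r, R r * Q = Q * R r := fun r => hcommQ r _ (isUnit_hom R r) (hR r)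
  have hRpow : ∀ r : T₀, R r ^ Nat.card T = 1 := fun r => by
    rw [← map_pow, show r ^ Nat.card T = 1 from Subtype.ext (by simp), map_one]
  -- determinants on all nontrivial eigenspaces
  have hdet : ∀ η : ℂ, η ^ q = 1 → η ≠ 1 → ∀ r, det (1 + (R r - 1) * eig q Q η) = 1 := by
    intro η hη hη1 r
    haveI : NeZero (Nat.card T) := ⟨Nat.card_pos.ne'⟩
    have hdt := hRd r
    rw [dt_eq_det] at hdt
    rw [← hdt]
    set P := eig q Q η with hP
    set P' := eig q Q ζ with hP'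
    have hidem : ∀ {θ : ℂ}, θ ^ q = 1 → eig q Q θ * eig q Q θ = eig q Q θ := fun hθ =>
      proj_idem (inv_smul_pow hθ hQq)
    have hRP : ∀ (x : T₀) (θ : ℂ), R x * eig q Q θ = eig q Q θ * R x := fun x θ =>
      commute_proj (by rw [mul_smul_comm, smul_mul_assoc, hRQ])
    have hpowY : ∀ (θ : ℂ), θ ^ q = 1 → ∀ k : ℕ,
        (1 + (R r - 1) * eig q Q θ) ^ k = 1 + (R (r ^ k) - 1) * eig q Q θ := by
      intro θ hθ k
      induction k with
      | zero => simp
      | succ k ih =>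
        rw [pow_succ, ih, pow_succ r, map_mul]
        have e1 : eig q Q θ * ((R r - 1) * eig q Q θ) = (R r - 1) * eig q Q θ := by
          rw [← mul_assoc, mul_sub, ← hRP, mul_one, sub_mul, sub_mul, one_mul, mul_assoc, hidem hθ]
        rw [mul_add, add_mul, add_mul, one_mul, one_mul, mul_one, mul_assoc (R (r ^ k) - 1), e1]
        noncomm_ring
    refine det_eq_of_trace (D := Nat.card T) ?_ ?_ fun k => ?_
    · rw [hpowY η hη, map_pow, hRpow, sub_self, zero_mul, add_zero]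
    · rw [hpowY ζ hζ.pow_eq_one, map_pow, hRpow, sub_self, zero_mul, add_zero]
    · rw [hpowY η hη, hpowY ζ hζ.pow_eq_one]
      have hS := hconst (φ (r ^ k : T₀)) (R (r ^ k)) (hRpow _) (hR _) (hRQ _)
        (by rw [← map_pow, pow_card_eq_one', map_one]) (hT₀.mp (r ^ k).2)
      have h1 : ∀ l, ¬ q ∣ l → trace ((1 : Matrix n n ℂ) * Q ^ l) = trace (1 * Q) := fun l hl => by
        rw [one_mul, one_mul, hQl l hl, hQtr]
      simp only [trace_add, sub_mul, trace_sub]
      rw [hsum _ hS η hη hη1, hsum _ hS ζ hζ.pow_eq_one (hζ.ne_one hq.one_lt),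
        hsum 1 h1 η hη hη1, hsum 1 h1 ζ hζ.pow_eq_one (hζ.ne_one hq.one_lt)]
  -- the cyclic quotient
  let J : T →* (ZMod q)ˣ := MonoidHom.mk' (fun t => Units.mk0 (j t : ZMod q) fun h =>
      hjq t ((ZMod.natCast_eq_zero_iff _ _).mp h)) fun a b => Units.ext (by
    show (j (a * b) : ZMod q) = (j a : ZMod q) * (j b : ZMod q)
    rw [← Nat.cast_mul, ZMod.natCast_eq_natCast_iff, ← hord, ← pow_eq_pow_iff_modEq, ← hj, map_mul,
      pow_mul, ← hj a, conj_pow, ← hj b]
    group)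
  have hker : ∀ t, J t = 1 ↔ t ∈ T₀ := fun t => by
    rw [hT₀, Units.ext_iff]
    show (j t : ZMod q) = (1 : ZMod q) ↔ _
    rw [← Nat.cast_one, ZMod.natCast_eq_natCast_iff, ← hord, ← pow_eq_pow_iff_modEq, pow_one,
      ← hj, mul_inv_eq_iff_eq_mul]
  obtain ⟨⟨g, t, rfl⟩, hg⟩ := IsCyclic.exists_monoid_generator (α := J.range)
  obtain ⟨X, hXu, hX⟩ := exists_X hρ (φ t) fun e => trace_apply D hz _ e
  refine exists_cyclic hρ T₀ t (fun x => ?_) R hR X hXu hX fun r r' hr' => ?_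
  · obtain ⟨i, hi⟩ := hg ⟨J x, x, rfl⟩
    refine ⟨i, (hker _).mp ?_⟩
    have hi' : J t ^ i = J x := congrArg Subtype.val hi
    rw [map_mul, map_inv, map_pow, hi', mul_inv_cancel]
  · obtain ⟨U, hU⟩ := hXu
    let Y : Matrix n n ℂ := ((U⁻¹ : (Matrix n n ℂ)ˣ) : Matrix n n ℂ)
    have hYX : Y * X = 1 := by rw [← hU]; exact Units.inv_mul U
    have hXY : X * Y = 1 := by rw [← hU]; exact Units.mul_inv U
    have hn' : ∀ x : T₀, t * (x : T) * t⁻¹ ∈ T₀ := fun x =>
      Subgroup.Normal.conj_mem inferInstance _ x.2 t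
    let R' : T₀ →* Matrix n n ℂ :=
      { toFun := fun x => Y * R ⟨_, hn' x⟩ * X
        map_one' := by
          rw [show (⟨_, hn' 1⟩ : T₀) = 1 from Subtype.ext (by simp), map_one, mul_one, hYX]
        map_mul' := fun a b => by
          rw [show (⟨_, hn' (a * b)⟩ : T₀) = ⟨_, hn' a⟩ * ⟨_, hn' b⟩ from
            Subtype.ext (by simp), map_mul]
          simp only [mul_assoc]
          rw [← mul_assoc X Y, hXY, one_mul] }
    have hYi : ∀ a, Y * ρ (φ t a) = ρ a * Y := fun a => by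
      calc Y * ρ (φ t a) = Y * (ρ (φ t a) * X) * Y := by
            rw [mul_assoc, mul_assoc (ρ (φ t a)), hXY, mul_one]
        _ = ρ a * Y := by rw [← hX, ← mul_assoc, hYX, one_mul]
    have hR' : ∀ x e, R' x * ρ e = ρ (φ x e) * R' x := fun x e => by
      show Y * R ⟨_, hn' x⟩ * X * ρ e = ρ (φ x e) * (Y * R ⟨_, hn' x⟩ * X)
      have h1 : R ⟨_, hn' x⟩ * (X * ρ e) = ρ (φ t (φ x e)) * (R ⟨_, hn' x⟩ * X) := by
        rw [hX, ← mul_assoc, hR, mul_assoc]
        congr 2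
        show φ (t * x * t⁻¹) (φ t e) = _
        rw [← MulAut.mul_apply, ← MulAut.mul_apply, ← map_mul, ← map_mul]
        simp [mul_assoc]
      calc Y * R ⟨_, hn' x⟩ * X * ρ e = Y * (R ⟨_, hn' x⟩ * (X * ρ e)) := by simp only [mul_assoc]
        _ = _ := by rw [h1, ← mul_assoc, hYi]; simp only [mul_assoc]
    -- the eigenvalue which `X` moves to the first
    have hnd : (j t : ZMod q) ≠ 0 := fun h => hjq t ((ZMod.natCast_eq_zero_iff _ _).mp h)
    set i := ((j t : ZMod q)⁻¹).val with hi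
    have hij : i * j t ≡ 1 [MOD q] := by
      rw [← ZMod.natCast_eq_natCast_iff, Nat.cast_mul, hi, ZMod.natCast_zmod_val, Nat.cast_one,
        inv_mul_cancel₀ hnd]
    have hζi : (ζ ^ i) ^ j t = ζ := by
      rw [← pow_mul, pow_eq_pow_mod _ hζ.pow_eq_one, hij, Nat.one_mod_eq_one.mpr hq.ne_one, pow_one]
    have hη : (ζ ^ i) ^ q = 1 := by rw [← pow_mul, mul_comm, pow_mul, hζ.pow_eq_one, one_pow]
    have hη1 : ζ ^ i ≠ 1 := fun h => hζ.ne_one hq.one_lt (by rw [← hζi, h, one_pow])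
    have hXP : X * eig q Q ζ = eig q Q (ζ ^ i) * X := by
      have h1 : X * (ζ⁻¹ • Q) = ((ζ ^ i)⁻¹ • Q) ^ j t * X := by
        rw [smul_pow, inv_pow, hζi, smul_mul_assoc, mul_smul_comm,
          hmove t (j t) (hj t) (hjq t) X ⟨U, hU⟩ hX]
      have h2 : ∀ k : ℕ, X * (ζ⁻¹ • Q) ^ k = (((ζ ^ i)⁻¹ • Q) ^ j t) ^ k * X := fun k => by
        induction k with
        | zero => simp
        | succ k ih =>
          rw [pow_succ, ← mul_assoc, ih, mul_assoc, h1, ← mul_assoc, ← pow_succ]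
      show X * proj q (ζ⁻¹ • Q) = proj q ((ζ ^ i)⁻¹ • Q) * X
      rw [← proj_pow (inv_smul_pow hη hQq) ((hq.coprime_iff_not_dvd.mpr (hjq t)).symm)]
      simp only [proj, mul_smul_comm, smul_mul_assoc, Finset.mul_sum, Finset.sum_mul, h2]
    have hd' : ∀ x, F.dt (R' x) = 1 := fun x => by
      rw [dt_eq_det]
      show det (1 + (Y * R ⟨_, hn' x⟩ * X - 1) * eig q Q ζ) = 1
      have e1 : 1 + (Y * R ⟨_, hn' x⟩ * X - 1) * eig q Q ζ =
          Y * (1 + (R ⟨_, hn' x⟩ - 1) * eig q Q (ζ ^ i)) * X := by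
        have e0 : Y * R ⟨_, hn' x⟩ * X - 1 = Y * (R ⟨_, hn' x⟩ - 1) * X := by
          rw [mul_sub, sub_mul, mul_one, hYX]
        rw [e0, mul_add, add_mul, mul_one, hYX, mul_assoc _ X, hXP]
        simp only [mul_assoc]
      rw [e1, det_mul, det_mul, hdet _ hη hη1, mul_one, ← det_mul, hYX, det_one]
    have heq := hom_unique hρ F hcop hR hR' hRd hd'
    have h3 : Y * R r' * X = R r := by
      have h4 := DFunLike.congr_fun heq r
      rwa [show r' = ⟨_, hn' r⟩ from Subtype.ext hr']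
    rw [← h3, ← mul_assoc, ← mul_assoc, hXY, one_mul]

end Cfsg.Agent.Lib.MagicExt.Field
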