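import Cfsg.Agent.Lib.MagicExt.Rational
import Cfsg.Agent.Lib.MagicExt.Lift

/-!
# The Lagrangian configuration
-/

set_option autoImplicit false
set_option linter.unusedSectionVars false
set_option linter.style.haveILetI false

namespace Cfsg.Agent.Lib.MagicExt.Lagrangian

open Matrix hiding mul_inv_rev
open Cfsg.Agent.Lib.MagicExt.Linear Cfsg.Agent.Lib.MagicExt.Extend
open Cfsg.Agent.Lib.MagicExt.Datum Cfsg.Agent.Lib.MagicExt.Centre Cfsg.Agent.Lib.MagicExt.Ring
open Cfsg.Agent.Lib.MagicExt.Cases Cfsg.Agent.Lib.MagicExt.Lift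

universe u v

variable {n : Type} [Fintype n] [DecidableEq n] [Nonempty n] {E : Type u} [Group E] [Fintype E]
  {z : E}

open Classical in
/-- The average over a subgroup. -/
noncomputable def avgP (ρ : E →* Matrix n n ℂ) (W : Subgroup E) : Matrix n n ℂ :=
  (Fintype.card W : ℂ)⁻¹ • ∑ w : W, ρ w

open Classical in
theorem avgP_idem (ρ : E →* Matrix n n ℂ) (W : Subgroup E) : avgP ρ W * avgP ρ W = avgP ρ W := by
  have h : ∀ w : W, ρ w * ∑ v : W, ρ v = ∑ v : W, ρ v := fun w => by
    rw [Finset.mul_sum]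
    exact Fintype.sum_equiv (Equiv.mulLeft w) _ _ fun v => by
      rw [Equiv.coe_mulLeft, Subgroup.coe_mul, map_mul]
  simp only [avgP, smul_mul_smul_comm, Finset.sum_mul, h, Finset.sum_const, Finset.card_univ]
  rw [← Nat.cast_smul_eq_nsmul ℂ, smul_smul, mul_assoc,
    inv_mul_cancel₀ (Nat.cast_ne_zero.mpr Fintype.card_ne_zero), mul_one]

open Classical in
theorem avgP_comm {ρ : E →* Matrix n n ℂ} {X : Matrix n n ℂ} {a : MulAut E}
    (hX : ∀ e, X * ρ e = ρ (a e) * X) {W W' : Subgroup E} (h : ∀ e, e ∈ W ↔ a e ∈ W') :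
    X * avgP ρ W = avgP ρ W' * X := by
  let e : W ≃ W' := a.toEquiv.subtypeEquiv h
  simp only [avgP, mul_smul_comm, smul_mul_assoc, Finset.mul_sum, Finset.sum_mul, hX]
  rw [Fintype.card_congr e]
  congr 1
  exact Fintype.sum_equiv e _ _ fun w => rfl

variable {T : Type v} [Group T] [Finite T] {φ : T →* MulAut E} {K : Subgroup (MulAut E)}
  {ρ : E →* Matrix n n ℂ}

theorem rank_one_smul {P : Matrix n n ℂ} (F : Fact' P 1) {X : Matrix n n ℂ} (hX : X * P = P * X) :
    P * X = F.dt X • P := by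
  have h1 : F.B * X * F.A = F.dt X • (1 : Matrix (Fin 1) (Fin 1) ℂ) := by
    ext i j
    rw [Subsingleton.elim i 0, Subsingleton.elim j 0, Fact'.dt, det_fin_one]
    simp
  have hidem : P * P = P :=
    calc P * P = F.A * F.B * P := congrArg (· * P) F.mul_eq.symm
      _ = P := by rw [Matrix.mul_assoc, F.B_P, F.mul_eq]
  calc P * X = P * (P * X) := by rw [← Matrix.mul_assoc, hidem]
    _ = P * X * P := (congrArg (P * ·) hX.symm).trans (Matrix.mul_assoc P X P).symm
    _ = F.A * (F.B * X * F.A) * F.B := by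
        conv_lhs => rw [← F.mul_eq]
        simp only [Matrix.mul_assoc]
    _ = F.dt X • P := by
        rw [h1, Matrix.mul_smul, Matrix.mul_one, Matrix.smul_mul, F.mul_eq]

/-- The Lagrangian configuration extends. -/
theorem ext_lagr (D : Dat z) (hρ : Irr ρ) (hz : ρ z = -1) (hK : Free (z := z) K)
    (hn : ∀ t, ∀ k ∈ K, φ t * k * (φ t)⁻¹ ∈ K) (hL : CfgL D hn) : Ext ρ φ := by
  classical
  obtain ⟨f, hff, hsf, hperm⟩ := hL
  have hgg : (1 - f) * (1 - f) = 1 - f := by linear_combination hff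
  have hsg : starHom D K (1 - f) = 1 - (1 - f) := by rw [map_sub, map_one, hsf]
  obtain ⟨W, hW, hWu⟩ := exists_compl hK hff hsf
  obtain ⟨W', hW', hW'u⟩ := exists_compl hK hgg hsg
  have htrans : ∀ t, (cjT D hn t f = f → (∀ a, a ∈ W ↔ φ t a ∈ W) ∧ ∀ a, a ∈ W' ↔ φ t a ∈ W') ∧
      (cjT D hn t f = 1 - f → (∀ a, a ∈ W ↔ φ t a ∈ W') ∧ ∀ a, a ∈ W' ↔ φ t a ∈ W) := by
    intro t
    constructor
    · intro h
      constructor
      · intro a; conv_lhs => rw [← hWu _ (compl_comap (hn t) h hW)]
        rfl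
      · intro a
        have h' : cj D K (hn t) (1 - f) = 1 - f := by
          rw [map_sub, map_one]; exact congrArg (1 - ·) h
        conv_lhs => rw [← hW'u _ (compl_comap (hn t) h' hW')]
        rfl
    · intro h
      constructor
      · intro a; conv_lhs => rw [← hWu _ (compl_comap (hn t) h hW')]
        rfl
      · intro a
        have h' : cj D K (hn t) (1 - f) = f := by
          rw [map_sub, map_one]; exact (congrArg (1 - ·) h).trans (sub_sub_cancel _ _)
        conv_lhs => rw [← hW'u _ (compl_comap (hn t) h' hW)]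
        rfl
  -- traces of the projections
  have htrW : ∀ {g : R D K} {V' : Subgroup E}, IsCompl' g V' →
      trace (avgP ρ V') = (Fintype.card n : ℂ) / Fintype.card V' := fun {g V'} hV => by
    simp only [avgP, trace_smul, trace_sum, smul_eq_mul]
    rw [Finset.sum_eq_single (1 : V')]
    · rw [Subgroup.coe_one, map_one, trace_one, div_eq_inv_mul]
    · intro w _ hw
      exact trace_eq_zero D hz fun h => hw (Subtype.ext (hV.eq_one w.2 h))
    · simp
  -- the two complements give every class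
  have hcls : ∀ {g : R D K} {V' : Subgroup E}, IsCompl' g V' → ∀ {a b : E}, a ∈ V' → b ∈ V' →
      cl D a = cl D b → a = b := fun {g V'} hV {a b} ha hb h => by
    have h1 : cl D (a⁻¹ * b) = 0 := by rw [cl_mul, cl_inv, h, neg_add_cancel]
    exact inv_mul_eq_one.mp (hV.eq_one (V'.mul_mem (V'.inv_mem ha) hb) ((cl_eq_zero D).mp h1))
  have hcl : ∀ (w : W) (w' : W'),
      (f : AddMonoid.End (V D)) (cl D ((w : E) * w')) = cl D w ∧
        ((1 - f : R D K) : AddMonoid.End (V D)) (cl D ((w : E) * w')) = cl D w' := fun w w' => by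
    have h1 := mem_pre.mp (hW.le w.2)
    have h2 := mem_pre.mp (hW'.le w'.2)
    have h2' : (f : AddMonoid.End (V D)) (cl D w') = 0 := by
      rw [← h2]
      show ((f * (1 - f) : R D K) : AddMonoid.End (V D)) _ = _
      rw [show f * (1 - f) = 0 by linear_combination -hff]
      rfl
    have h1' : ((1 - f : R D K) : AddMonoid.End (V D)) (cl D w) = 0 := by
      rw [← h1]
      show (((1 - f) * f : R D K) : AddMonoid.End (V D)) _ = _
      rw [show (1 - f) * f = 0 by linear_combination -hff]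
      rfl
    constructor
    · rw [cl_mul, map_add, h1, h2', add_zero]
    · rw [cl_mul, map_add, h2, h1', zero_add]
  have hbij : Function.Bijective fun p : W × W' => cl D ((p.1 : E) * p.2) := by
    constructor
    · rintro ⟨w, w'⟩ ⟨x, x'⟩ h
      have e1 := (hcl w w').1.symm.trans ((congrArg _ h).trans (hcl x x').1)
      have e2 := (hcl w w').2.symm.trans ((congrArg _ h).trans (hcl x x').2)
      exact Prod.ext (Subtype.ext (hcls hW w.2 x.2 e1)) (Subtype.ext (hcls hW' w'.2 x'.2 e2))
    · intro v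
      have hget : ∀ {g : R D K} {V' : Subgroup E}, IsCompl' g V' → g * g = g →
          ∃ w : V', cl D (w : E) = (g : AddMonoid.End (V D)) v := fun {g V'} hV hg => by
        obtain ⟨a, ha⟩ := cl_surj D ((g : AddMonoid.End (V D)) v)
        have hap : a ∈ pre D K g := by
          rw [mem_pre, ha]
          show ((g * g : R D K) : AddMonoid.End (V D)) v = _
          rw [hg]
        rcases hV.gen a hap with h | h
        · exact ⟨⟨a, h⟩, ha⟩
        · exact ⟨⟨_, h⟩, by
            show cl D (a * z) = _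
            rw [cl_mul, (cl_eq_zero D).mpr (Or.inr rfl), add_zero, ha]⟩
      obtain ⟨w, hw⟩ := hget hW hff
      obtain ⟨w', hw'⟩ := hget hW' hgg
      refine ⟨(w, w'), ?_⟩
      show cl D _ = v
      rw [cl_mul, hw, hw']
      show ((f + (1 - f) : R D K) : AddMonoid.End (V D)) v = v
      rw [add_sub_cancel]
      rfl
  have hcardW : Fintype.card W * Fintype.card W' = Fintype.card n ^ 2 := by
    have h1 := Nat.card_eq_of_bijective _ hbij
    have h2 : Nat.card (Zc D) = 2 := by
      rw [Nat.card_eq_two_iff]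
      refine ⟨1, ⟨z, Or.inr rfl⟩, fun h => D.ne (congrArg Subtype.val h).symm,
        Set.eq_univ_of_forall fun x => ?_⟩
      rcases x.2 with h | h
      · exact Or.inl (Subtype.ext h)
      · exact Or.inr (Subtype.ext h)
    have h3 := Subgroup.card_eq_card_quotient_mul_card_subgroup (Zc D)
    rw [h2, Nat.card_eq_fintype_card, ← card_eq D hρ hz] at h3
    rw [Nat.card_prod, Nat.card_eq_fintype_card, Nat.card_eq_fintype_card] at h1
    rw [h1]
    show Nat.card (E ⧸ Zc D) = _
    omega
  obtain ⟨m, ⟨F⟩⟩ := exists_fact (avgP_idem ρ W)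
  obtain ⟨m', ⟨F'⟩⟩ := exists_fact (avgP_idem ρ W')
  obtain ⟨hm, hm'⟩ : m = 1 ∧ m' = 1 := by
    have e1 := F.trace_eq.symm.trans (htrW hW)
    have e2 := F'.trace_eq.symm.trans (htrW hW')
    rw [eq_div_iff (Nat.cast_ne_zero.mpr Fintype.card_ne_zero)] at e1 e2
    have e1' : m * Fintype.card W = Fintype.card n := by exact_mod_cast e1
    have e2' : m' * Fintype.card W' = Fintype.card n := by exact_mod_cast e2
    have e3 : m * m' * Fintype.card n ^ 2 = 1 * Fintype.card n ^ 2 := by
      calc m * m' * Fintype.card n ^ 2 = m * Fintype.card W * (m' * Fintype.card W') := by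
            rw [← hcardW]; ring
        _ = 1 * Fintype.card n ^ 2 := by rw [e1', e2']; ring
    have e4 := Nat.eq_of_mul_eq_mul_right (pow_pos Fintype.card_pos 2) e3
    exact ⟨Nat.eq_one_of_mul_eq_one_right e4, Nat.eq_one_of_mul_eq_one_left e4⟩
  subst hm hm'
  have hPP : avgP ρ W * avgP ρ W' ≠ 0 := by
    intro h
    have h1 := congrArg trace h
    simp only [avgP, smul_mul_smul_comm, Finset.sum_mul, Finset.mul_sum, trace_smul, trace_sum,
      trace_zero, ← map_mul, smul_eq_mul] at h1
    rw [Finset.sum_comm, Finset.sum_eq_single (1 : W), Finset.sum_eq_single (1 : W')] at h1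
    · simp [Fintype.card_ne_zero] at h1
    · intro w' _ hw
      refine mul_eq_zero_of_right _
        (trace_eq_zero D hz fun hh => hw (Subtype.ext (hW'.eq_one w'.2 ?_)))
      simpa using hh
    · simp
    · intro w _ hw
      refine Finset.sum_eq_zero fun w' _ => mul_eq_zero_of_right _ (trace_eq_zero D hz fun hh =>
        hw (Subtype.ext (hW.eq_one w.2 ((cl_eq_zero D).mp ?_))))
      rw [← (hcl w w').1, (cl_eq_zero D).mpr hh, map_zero]
    · simp
  -- the stabiliser
  let T₀ : Subgroup T :=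
    { carrier := {t | cjT D hn t f = f}
      one_mem' := cjT_one D hn f
      mul_mem' := fun {a b} ha hb => by
        show cjT D hn (a * b) f = f
        rw [cjT_mul, hb, ha]
      inv_mem' := fun {a} ha => by
        show cjT D hn a⁻¹ f = f
        conv_lhs => rw [← (ha : cjT D hn a f = f), cjT_inv] }
  have hf1 : ∀ t s, cjT D hn s f = f → cjT D hn (t * s * t⁻¹) f = f := fun t s hs => by
    rcases hperm t⁻¹ with h | h
    · rw [cjT_mul, cjT_mul, h, hs]
      conv_lhs => rw [← h, ← cjT_mul, mul_inv_cancel, cjT_one]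
    · rw [cjT_mul, cjT_mul, h, map_sub, map_one, hs, ← h, ← cjT_mul, mul_inv_cancel, cjT_one]
  haveI : T₀.Normal := ⟨fun s hs t => hf1 t s hs⟩
  obtain ⟨R, hR, hRd⟩ := exists_normalised (φ := φ.comp T₀.subtype) hρ
    (fun t e => trace_apply D hz _ e) F one_pos (Nat.coprime_one_left _)
    (fun s X _ hX => avgP_comm hX ((htrans s).1 s.2).1)
  have hRP : ∀ s : T₀, R s * avgP ρ W = avgP ρ W ∧ R s * avgP ρ W' = avgP ρ W' := fun s => by
    have c1 := avgP_comm (hR s) ((htrans s).1 s.2).1
    have c2 := avgP_comm (hR s) ((htrans s).1 s.2).2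
    have e1 : avgP ρ W * R s = avgP ρ W := by rw [rank_one_smul F c1, hRd, one_smul]
    refine ⟨c1.trans e1, ?_⟩
    have e2 : avgP ρ W' * R s = F'.dt (R s) • avgP ρ W' := rank_one_smul F' c2
    have e3 : avgP ρ W * avgP ρ W' = F'.dt (R s) • (avgP ρ W * avgP ρ W') := by
      conv_lhs => rw [← e1]
      rw [mul_assoc, c2, e2, mul_smul_comm]
    have e4 : F'.dt (R s) = 1 := by
      have : (1 - F'.dt (R s)) • (avgP ρ W * avgP ρ W') = 0 := by
        rw [sub_smul, one_smul, ← e3, sub_self]
      exact (sub_eq_zero.mp ((smul_eq_zero.mp this).resolve_right hPP)).symm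
    rw [c2, e2, e4, one_smul]
  by_cases htop : ∀ t, t ∈ T₀
  · let e : T →* T₀ := (MonoidHom.id T).codRestrict T₀ htop
    exact ⟨R.comp e, fun t a => hR (e t) a⟩
  push Not at htop
  obtain ⟨t, ht⟩ := htop
  have htf : cjT D hn t f = 1 - f := (hperm t).resolve_left ht
  obtain ⟨X, hXu, hX⟩ := exists_X hρ (φ t) fun e => trace_apply D hz _ e
  obtain ⟨U, hU⟩ := hXu
  refine exists_cyclic hρ T₀ t (fun s => ?_) R hR X ⟨U, hU⟩ hX fun s s' hs' => ?_
  · rcases hperm s with h | h
    · exact ⟨0, by rw [pow_zero, inv_one, mul_one]; exact h⟩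
    · refine ⟨1, ?_⟩
      show cjT D hn (s * (t ^ 1)⁻¹) f = f
      have ht' : cjT D hn t⁻¹ f = 1 - f := by
        have h1 := cjT_inv D hn t f
        rw [htf, map_sub, map_one] at h1
        linear_combination -h1
      rw [pow_one, cjT_mul, ht', map_sub, map_one, h, sub_sub_cancel]
  · let Y : Matrix n n ℂ := ((U⁻¹ : (Matrix n n ℂ)ˣ) : Matrix n n ℂ)
    have hYX : Y * X = 1 := by rw [← hU]; exact Units.inv_mul U
    have hXY : X * Y = 1 := by rw [← hU]; exact Units.mul_inv U
    have hn' : ∀ r : T₀, t * (r : T) * t⁻¹ ∈ T₀ := fun r => hf1 t r r.2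
    let R' : T₀ →* Matrix n n ℂ :=
      { toFun := fun r => Y * R ⟨_, hn' r⟩ * X
        map_one' := by
          rw [show (⟨_, hn' 1⟩ : T₀) = 1 from Subtype.ext (by simp), map_one, mul_one, hYX]
        map_mul' := fun a b => by
          rw [show (⟨_, hn' (a * b)⟩ : T₀) = ⟨_, hn' a⟩ * ⟨_, hn' b⟩ from
            Subtype.ext (by simp), map_mul]
          simp only [mul_assoc]
          rw [← mul_assoc X Y, hXY, one_mul] }
    have hR' : ∀ r e, R' r * ρ e = ρ (φ r e) * R' r := fun r e => by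
      show Y * R ⟨_, hn' r⟩ * X * ρ e = ρ (φ r e) * (Y * R ⟨_, hn' r⟩ * X)
      have h1 : R ⟨_, hn' r⟩ * (X * ρ e) = ρ (φ t (φ r e)) * (R ⟨_, hn' r⟩ * X) := by
        rw [hX, ← mul_assoc, hR, mul_assoc]
        congr 2
        show φ (t * r * t⁻¹) (φ t e) = _
        rw [← MulAut.mul_apply, ← MulAut.mul_apply, ← map_mul, ← map_mul]
        simp [mul_assoc]
      have h2 : ∀ a, Y * ρ (φ t a) = ρ a * Y := fun a => by
        calc Y * ρ (φ t a) = Y * (ρ (φ t a) * X) * Y := by
              rw [mul_assoc, mul_assoc (ρ (φ t a)), hXY, mul_one]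
          _ = ρ a * Y := by rw [← hX, ← mul_assoc, hYX, one_mul]
      calc Y * R ⟨_, hn' r⟩ * X * ρ e = Y * (R ⟨_, hn' r⟩ * (X * ρ e)) := by simp only [mul_assoc]
        _ = _ := by rw [h1, ← mul_assoc, h2]; simp only [mul_assoc]
    have hd' : ∀ r, F.dt (R' r) = 1 := fun r => by
      have hP : R' r * avgP ρ W = avgP ρ W := by
        show Y * R ⟨_, hn' r⟩ * X * avgP ρ W = avgP ρ W
        rw [mul_assoc, avgP_comm hX ((htrans t).2 htf).1, ← mul_assoc, mul_assoc Y, (hRP _).2,
          mul_assoc, ← avgP_comm hX ((htrans t).2 htf).1, ← mul_assoc, hYX, one_mul]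
      rw [Fact'.dt, Matrix.mul_assoc, ← F.P_A, ← Matrix.mul_assoc (R' r), hP, F.P_A, F.one_eq,
        det_one]
    have heq := hom_unique hρ F (Nat.coprime_one_left _) hR hR' hRd hd'
    have h3 : Y * R s' * X = R s := by
      have h4 := DFunLike.congr_fun heq s
      rwa [show s' = ⟨_, hn' s⟩ from Subtype.ext hs']
    rw [← h3, ← mul_assoc, ← mul_assoc, hXY, one_mul]

end Cfsg.Agent.Lib.MagicExt.Lagrangian
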