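import Mathlib

/-!
# Irreducible matrix representations

Schur averaging, intertwiners from equal traces, and factorisations of idempotents.
-/

set_option autoImplicit false
set_option linter.unusedSectionVars false

namespace Cfsg.Agent.Lib.MagicExt.Linear

open Matrix hiding mul_inv_rev

universe u

variable {n : Type} [Fintype n] [DecidableEq n] {E : Type u} [Group E] [Fintype E]

/-- Only scalars commute with the representation. -/
def Irr (ρ : E →* Matrix n n ℂ) : Prop :=
  ∀ A, (∀ e, A * ρ e = ρ e * A) → ∃ c : ℂ, A = c • 1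

variable {ρ : E →* Matrix n n ℂ}

theorem inv_mul (ρ : E →* Matrix n n ℂ) (e : E) : ρ e⁻¹ * ρ e = 1 := by
  rw [← map_mul, inv_mul_cancel, map_one]

theorem mul_inv (ρ : E →* Matrix n n ℂ) (e : E) : ρ e * ρ e⁻¹ = 1 := by
  rw [← map_mul, mul_inv_cancel, map_one]

/-- Averages are scalars. -/
theorem avg (hρ : Irr ρ) [Nonempty n] (B : Matrix n n ℂ) :
    ∑ e, ρ e * B * ρ e⁻¹ =
      ((Fintype.card E : ℂ) * trace B / Fintype.card n) • (1 : Matrix n n ℂ) := by
  obtain ⟨c, hc⟩ := hρ (∑ e, ρ e * B * ρ e⁻¹) fun e => by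
    rw [Finset.sum_mul, Finset.mul_sum]
    refine (Fintype.sum_equiv (Equiv.mulLeft e) _ _ fun x => ?_).symm
    rw [Equiv.coe_mulLeft, map_mul, mul_inv_rev, map_mul]
    simp only [mul_assoc, inv_mul, mul_one]
  have h := congrArg trace hc
  rw [trace_sum, Finset.sum_congr rfl (g := fun _ => trace B) fun e _ => by
    rw [trace_mul_cycle, inv_mul, one_mul], Finset.sum_const, Finset.card_univ, nsmul_eq_mul,
    trace_smul, trace_one, smul_eq_mul] at h
  rw [hc, h, mul_div_cancel_right₀ _ (Nat.cast_ne_zero.mpr Fintype.card_ne_zero)]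

/-- Every matrix is a combination of the representing ones. -/
theorem reconstruct (hρ : Irr ρ) [Nonempty n] (A : Matrix n n ℂ) :
    ((Fintype.card E : ℂ) / Fintype.card n) • A = ∑ e, trace (A * ρ e) • ρ e⁻¹ := by
  ext k l
  have hentry : ∀ a b c d : n, ∑ e, ρ e a b * ρ e⁻¹ c d =
      if a = d ∧ b = c then (Fintype.card E : ℂ) / Fintype.card n else 0 := fun a b c d => by
    have h := congrFun (congrFun (avg hρ (Matrix.single b c (1 : ℂ))) a) d
    simp only [Matrix.sum_apply, Matrix.mul_apply, Matrix.single_apply, mul_ite, mul_one, mul_zero,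
      Finset.sum_mul, ite_mul, zero_mul, Matrix.smul_apply, smul_eq_mul, Matrix.one_apply] at h
    rw [← Finset.sum_congr rfl fun e _ => ?_, h]
    · by_cases hbc : b = c
      · subst hbc
        rw [Matrix.trace_single_eq_same]
        by_cases had : a = d <;> simp [had]
      · rw [Matrix.trace_single_eq_of_ne _ _ _ hbc]
        by_cases had : a = d <;> simp [had, hbc]
    · rw [Finset.sum_eq_single c (fun x _ hx => Finset.sum_eq_zero fun y _ => if_neg fun h' =>
        hx h'.2.symm) (fun h' => absurd (Finset.mem_univ c) h'),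
        Finset.sum_eq_single b (fun x _ hx => if_neg fun h' => hx h'.1.symm)
          (fun h' => absurd (Finset.mem_univ b) h'), if_pos ⟨rfl, rfl⟩]
  simp only [Matrix.smul_apply, smul_eq_mul, Matrix.sum_apply, trace, diag_apply, Matrix.mul_apply,
    Finset.sum_mul]
  rw [Finset.sum_comm, Finset.sum_congr rfl fun i _ => Finset.sum_comm]
  simp only [mul_assoc, ← Finset.mul_sum, hentry, ite_and, mul_ite, mul_zero, Finset.sum_ite_eq',
    Finset.mem_univ, if_true]
  rw [mul_comm]

theorem coeff_ne_zero [Nonempty n] : (Fintype.card E : ℂ) / Fintype.card n ≠ 0 :=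
  div_ne_zero (Nat.cast_ne_zero.mpr Fintype.card_ne_zero) (Nat.cast_ne_zero.mpr Fintype.card_ne_zero)

theorem eq_zero_of_trace (hρ : Irr ρ) [Nonempty n] {A : Matrix n n ℂ}
    (h : ∀ e, trace (A * ρ e) = 0) : A = 0 := by
  have h1 := reconstruct hρ A
  simp only [h, zero_smul, Finset.sum_const_zero] at h1
  exact (smul_eq_zero.mp h1).resolve_left coeff_ne_zero

/-- The square norm of the character. -/
theorem sum_trace_mul_trace (hρ : Irr ρ) [Nonempty n] :
    ∑ e, trace (ρ e) * trace (ρ e⁻¹) = (Fintype.card E : ℂ) := by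
  have h := congrArg trace (reconstruct hρ (1 : Matrix n n ℂ))
  simp only [one_mul, trace_sum, trace_smul, smul_eq_mul, trace_one] at h
  rw [← h, div_mul_cancel₀ _ (Nat.cast_ne_zero.mpr Fintype.card_ne_zero)]

/-- A nonzero matrix intertwining into an irreducible representation of the same size is
invertible. -/
theorem isUnit_of_intertwine (hρ : Irr ρ) [Nonempty n] {σ : E →* Matrix n n ℂ} {X : Matrix n n ℂ}
    (hX : X ≠ 0) (h : ∀ e, X * σ e = ρ e * X) : IsUnit X := by
  rw [isUnit_iff_isUnit_det, isUnit_iff_ne_zero]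
  intro hdet
  obtain ⟨v, hv, hvX⟩ := exists_vecMul_eq_zero_iff.mpr hdet
  have h1 : ∀ e, v ᵥ* (ρ e * X) = 0 := fun e => by
    rw [← h, ← vecMul_vecMul, hvX, zero_vecMul]
  have h2 : ∀ A : Matrix n n ℂ, v ᵥ* (A * X) = 0 := by
    intro A
    have hA := congrArg (fun B => v ᵥ* (B * X)) (reconstruct hρ A)
    simp only [smul_mul_assoc, Finset.sum_mul, vecMul_smul, vecMul_sum, h1, smul_zero,
      Finset.sum_const_zero] at hA
    exact (smul_eq_zero.mp hA).resolve_left coeff_ne_zero
  obtain ⟨i, hi⟩ : ∃ i, v i ≠ 0 := by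
    by_contra! hv'
    exact hv (funext hv')
  apply hX
  ext k l
  have h3 := congrFun (h2 (Matrix.single i k (1 : ℂ))) l
  simp only [vecMul, dotProduct, Matrix.mul_apply, Matrix.single_apply, ite_mul, one_mul, zero_mul,
    Pi.zero_apply, ite_and] at h3
  rw [Finset.sum_eq_single i (fun x _ hx => by simp [Ne.symm hx])
    (fun h' => absurd (Finset.mem_univ i) h')] at h3
  simp only [if_true, Finset.sum_ite_eq, Finset.mem_univ] at h3
  rcases mul_eq_zero.mp h3 with h4 | h4
  · exact absurd h4 hi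
  · exact h4

/-- Representations with equal traces are equivalent. -/
theorem exists_intertwiner (hρ : Irr ρ) [Nonempty n] {σ : E →* Matrix n n ℂ}
    (htr : ∀ e, trace (σ e) = trace (ρ e)) :
    ∃ X : Matrix n n ℂ, IsUnit X ∧ ∀ e, X * σ e = ρ e * X := by
  have hint : ∀ B : Matrix n n ℂ, ∀ e, (∑ x, ρ x * B * σ x⁻¹) * σ e =
      ρ e * ∑ x, ρ x * B * σ x⁻¹ := fun B e => by
    rw [Finset.sum_mul, Finset.mul_sum]
    refine (Fintype.sum_equiv (Equiv.mulLeft e) _ _ fun x => ?_).symm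
    rw [Equiv.coe_mulLeft, map_mul, mul_inv_rev, map_mul]
    simp only [mul_assoc, inv_mul, mul_one]
  by_contra hcon
  push Not at hcon
  have hz : ∀ B : Matrix n n ℂ, ∑ x, ρ x * B * σ x⁻¹ = 0 := fun B => by
    by_contra hB
    obtain ⟨e, he⟩ := hcon _ (isUnit_of_intertwine hρ hB (hint B))
    exact he (hint B e)
  have hsum : ∑ x, trace (ρ x) * trace (σ x⁻¹) = 0 := by
    have h1 : ∀ a d, ∑ x, ρ x a a * σ x⁻¹ d d = 0 := fun a d => by
      have h := congrFun (congrFun (hz (Matrix.single a d (1 : ℂ))) a) d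
      simp only [Matrix.sum_apply, Matrix.mul_apply, Matrix.single_apply, mul_ite, mul_one,
        mul_zero, Finset.sum_mul, ite_mul, zero_mul, Matrix.zero_apply] at h
      rw [← h]
      refine Finset.sum_congr rfl fun x _ => ?_
      rw [Finset.sum_eq_single d (fun y _ hy => Finset.sum_eq_zero fun z _ => if_neg fun h' =>
        hy h'.2.symm) (fun h' => absurd (Finset.mem_univ d) h'),
        Finset.sum_eq_single a (fun y _ hy => if_neg fun h' => hy h'.1.symm)
          (fun h' => absurd (Finset.mem_univ a) h'), if_pos ⟨rfl, rfl⟩]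
    simp only [trace, diag_apply, Finset.sum_mul_sum]
    rw [Finset.sum_comm]
    exact Finset.sum_eq_zero fun a _ => by
      rw [Finset.sum_comm]
      exact Finset.sum_eq_zero fun d _ => h1 a d
  simp only [htr, sum_trace_mul_trace hρ] at hsum
  exact Nat.cast_ne_zero.mpr Fintype.card_ne_zero hsum

/-- Two intertwiners differ by a scalar. -/
theorem exists_scalar (hρ : Irr ρ) {σ : E →* Matrix n n ℂ} {X Y : Matrix n n ℂ} (hY : IsUnit Y)
    (hX' : ∀ e, X * σ e = ρ e * X) (hY' : ∀ e, Y * σ e = ρ e * Y) : ∃ c : ℂ, X = c • Y := by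
  obtain ⟨Y, rfl⟩ := hY
  set Z : Matrix n n ℂ := ((Y⁻¹ : (Matrix n n ℂ)ˣ) : Matrix n n ℂ) with hZ
  have hZY : Z * (Y : Matrix n n ℂ) = 1 := Units.inv_mul Y
  have hYZ : (Y : Matrix n n ℂ) * Z = 1 := Units.mul_inv Y
  have hs : ∀ e, σ e * Z = Z * ρ e := fun e => by
    calc σ e * Z = Z * ((Y : Matrix n n ℂ) * σ e) * Z := by rw [← mul_assoc, hZY, one_mul]
      _ = Z * (ρ e * (Y : Matrix n n ℂ)) * Z := by rw [hY']
      _ = Z * ρ e := by simp only [mul_assoc, hYZ, mul_one]
  obtain ⟨c, hc⟩ := hρ (X * Z) fun e => by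
    rw [mul_assoc, ← hs, ← mul_assoc, hX', mul_assoc]
  exact ⟨c, by rw [← mul_one X, ← hZY, ← mul_assoc, hc, smul_mul_assoc, one_mul]⟩

/-- A factorisation of an idempotent. -/
structure Fact' (P : Matrix n n ℂ) (m : ℕ) where
  A : Matrix n (Fin m) ℂ
  B : Matrix (Fin m) n ℂ
  mul_eq : A * B = P
  one_eq : B * A = 1

theorem Fact'.B_P {P : Matrix n n ℂ} {m : ℕ} (F : Fact' P m) : F.B * P = F.B :=
  calc F.B * P = F.B * (F.A * F.B) := congrArg (F.B * ·) F.mul_eq.symm
    _ = F.B := by rw [← Matrix.mul_assoc, F.one_eq, Matrix.one_mul]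

theorem Fact'.P_A {P : Matrix n n ℂ} {m : ℕ} (F : Fact' P m) : P * F.A = F.A :=
  calc P * F.A = (F.A * F.B) * F.A := congrArg (· * F.A) F.mul_eq.symm
    _ = F.A := by rw [Matrix.mul_assoc, F.one_eq, Matrix.mul_one]

theorem Fact'.trace_eq {P : Matrix n n ℂ} {m : ℕ} (F : Fact' P m) : trace P = m := by
  rw [← F.mul_eq, trace_mul_comm, F.one_eq, trace_one, Fintype.card_fin]

theorem exists_fact {P : Matrix n n ℂ} (hP : P * P = P) : ∃ m, Nonempty (Fact' P m) := by
  let f := Matrix.toLin' P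
  let W := LinearMap.range f
  let b := Module.finBasis ℂ W
  have hf : ∀ w : W, f w.1 = w.1 := fun w => by
    obtain ⟨x, hx⟩ := w.2
    rw [← hx, ← LinearMap.comp_apply, ← Matrix.toLin'_mul, hP]
  let a : (Fin (Module.finrank ℂ W) → ℂ) →ₗ[ℂ] (n → ℂ) :=
    W.subtype.comp b.equivFun.symm.toLinearMap
  let c : (n → ℂ) →ₗ[ℂ] (Fin (Module.finrank ℂ W) → ℂ) :=
    b.equivFun.toLinearMap.comp f.rangeRestrict
  have h1 : a.comp c = f := LinearMap.ext fun x => by
    simp [a, c, LinearMap.rangeRestrict]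
  have h2 : c.comp a = LinearMap.id := LinearMap.ext fun x => by
    have : f.rangeRestrict ((b.equivFun.symm x : W) : n → ℂ) = b.equivFun.symm x :=
      Subtype.ext (hf _)
    show b.equivFun (f.rangeRestrict ((b.equivFun.symm x : W) : n → ℂ)) = x
    rw [this, LinearEquiv.apply_symm_apply]
  refine ⟨_, ⟨⟨LinearMap.toMatrix' a, LinearMap.toMatrix' c, ?_, ?_⟩⟩⟩
  · rw [← LinearMap.toMatrix'_comp, h1, LinearMap.toMatrix'_toLin']
  · rw [← LinearMap.toMatrix'_comp, h2, LinearMap.toMatrix'_id]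

/-- The determinant on the image of an idempotent. -/
noncomputable def Fact'.dt {P : Matrix n n ℂ} {m : ℕ} (F : Fact' P m) (X : Matrix n n ℂ) : ℂ :=
  det (F.B * X * F.A)

theorem Fact'.dt_mul {P : Matrix n n ℂ} {m : ℕ} (F : Fact' P m) {X Y : Matrix n n ℂ}
    (hX : X * P = P * X) : F.dt (X * Y) = F.dt X * F.dt Y := by
  rw [Fact'.dt, Fact'.dt, Fact'.dt, ← det_mul]
  congr 1
  calc F.B * (X * Y) * F.A = F.B * P * X * Y * F.A := by rw [F.B_P, ← Matrix.mul_assoc]
    _ = F.B * (X * P) * Y * F.A := by rw [hX, ← Matrix.mul_assoc]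
    _ = F.B * (X * (F.A * F.B)) * Y * F.A :=
      congrArg (fun Z => F.B * (X * Z) * Y * F.A) F.mul_eq.symm
    _ = F.B * X * F.A * (F.B * Y * F.A) := by simp only [Matrix.mul_assoc]

theorem Fact'.dt_one {P : Matrix n n ℂ} {m : ℕ} (F : Fact' P m) : F.dt 1 = 1 := by
  rw [Fact'.dt, Matrix.mul_one, F.one_eq, det_one]

theorem Fact'.dt_smul {P : Matrix n n ℂ} {m : ℕ} (F : Fact' P m) (c : ℂ) (X : Matrix n n ℂ) :
    F.dt (c • X) = c ^ m * F.dt X := by
  rw [Fact'.dt, Fact'.dt, Matrix.mul_smul, Matrix.smul_mul, det_smul, Fintype.card_fin]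

/-- The determinant does not depend on the factorisation. -/
theorem Fact'.dt_indep {P : Matrix n n ℂ} {m : ℕ} (F F' : Fact' P m) {X : Matrix n n ℂ}
    (hX : X * P = P * X) : F.dt X = F'.dt X := by
  have h1 : (F.B * F'.A) * (F'.B * F.A) = 1 := by
    calc (F.B * F'.A) * (F'.B * F.A) = F.B * (F'.A * F'.B) * F.A := by simp only [Matrix.mul_assoc]
      _ = F.B * P * F.A := congrArg (fun Z => F.B * Z * F.A) F'.mul_eq
      _ = 1 := by rw [F.B_P, F.one_eq]
  have h2 : F'.B * X * F'.A = (F'.B * F.A) * (F.B * X * F.A) * (F.B * F'.A) := by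
    calc F'.B * X * F'.A = F'.B * P * X * P * F'.A := by
          rw [F'.B_P, Matrix.mul_assoc (F'.B * X), F'.P_A]
      _ = F'.B * (F.A * F.B) * X * (F.A * F.B) * F'.A :=
        congrArg (fun Z => F'.B * Z * X * Z * F'.A) F.mul_eq.symm
      _ = _ := by simp only [Matrix.mul_assoc]
  rw [Fact'.dt, Fact'.dt, h2, det_mul, det_mul, mul_comm (det (F'.B * F.A)), mul_assoc,
    ← det_mul (F'.B * F.A), mul_eq_one_comm.mp h1, det_one, mul_one]

end Cfsg.Agent.Lib.MagicExt.Linear
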