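import Cfsg.Agent.Lib.MagicExt.Lagrangian
import Cfsg.Agent.Lib.MagicExt.Field

/-!
# Extension over a two-group normalising a fixed point free group of odd order
-/

set_option autoImplicit false
set_option linter.unusedSectionVars false
set_option linter.style.haveILetI false

namespace Cfsg.Agent.Lib.MagicExt.Main

open Matrix hiding mul_inv_rev
open scoped Kronecker
open Cfsg.Agent.Lib.MagicExt.Linear Cfsg.Agent.Lib.MagicExt.Extend
open Cfsg.Agent.Lib.MagicExt.Datum Cfsg.Agent.Lib.MagicExt.Centre Cfsg.Agent.Lib.MagicExt.Ring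
open Cfsg.Agent.Lib.MagicExt.Cases Cfsg.Agent.Lib.MagicExt.Lift

universe u v

variable {E : Type u} [Group E] [Finite E] {z : E} {D : Dat z} {K : Subgroup (MulAut E)}

theorem map_pre {f g : R D K} {α : MulAut E} (hα : ∀ k ∈ K, α * k * α⁻¹ ∈ K)
    (hfg : cj D K hα f = g) {a : E} (ha : a ∈ pre D K f) : α a ∈ pre D K g := by
  rw [mem_pre] at ha ⊢
  rw [← hfg]
  show act D α ((f : AddMonoid.End (V D)) (act D α⁻¹ (cl D (α a)))) = cl D (α a)
  rw [act_cl, MulAut.inv_apply_self, ha, act_cl]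

theorem pre_facts {ε : R D K} (hee : ε * ε = ε) (hse : starHom D K ε = ε) :
    (∀ a ∈ pre D K ε, ∀ b ∈ pre D K (1 - ε), a * b = b * a) ∧
      (∀ a ∈ pre D K ε, a ∈ pre D K (1 - ε) → a = 1 ∨ a = z) ∧
      ∀ e, ∃ a ∈ pre D K ε, ∃ b ∈ pre D K (1 - ε), a * b = e := by
  refine ⟨fun a ha b hb => ?_, fun a ha hb => ?_, fun e => ?_⟩
  · apply commute_of_form D
    rw [← mem_pre.mp ha, star'_spec D K ε, ← mem_pre.mp hb]
    show form D _ (((starHom D K ε * (1 - ε) : R D K) : AddMonoid.End (V D)) (cl D b)) = 0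
    rw [hse, show ε * (1 - ε) = 0 by linear_combination -hee]
    exact form_zero_right D _
  · refine (cl_eq_zero D).mp ?_
    rw [← mem_pre.mp ha, ← mem_pre.mp hb]
    show ((ε * (1 - ε) : R D K) : AddMonoid.End (V D)) (cl D a) = 0
    rw [show ε * (1 - ε) = 0 by linear_combination -hee]
    rfl
  · obtain ⟨a, ha⟩ := cl_surj D ((ε : AddMonoid.End (V D)) (cl D e))
    refine ⟨a, ?_, a⁻¹ * e, ?_, mul_inv_cancel_left a e⟩
    · rw [mem_pre, ha]
      show ((ε * ε : R D K) : AddMonoid.End (V D)) (cl D e) = _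
      rw [hee]
    · rw [mem_pre, cl_mul, cl_inv, ha]
      show ((1 - ε : R D K) : AddMonoid.End (V D)) (-(ε : AddMonoid.End (V D)) (cl D e) + cl D e) = _
      rw [show -(ε : AddMonoid.End (V D)) (cl D e) + cl D e =
        ((1 - ε : R D K) : AddMonoid.End (V D)) (cl D e) by
          show _ = cl D e - (ε : AddMonoid.End (V D)) (cl D e)
          rw [neg_add_eq_sub]]
      show (((1 - ε) * (1 - ε) : R D K) : AddMonoid.End (V D)) (cl D e) = _
      rw [show (1 - ε) * (1 - ε) = 1 - ε by linear_combination hee]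

theorem pre_lt {ε : R D K} (h : ε ≠ 1) : Nat.card (pre D K ε) < Nat.card E := by
  by_contra hlt
  refine h (Subtype.ext (AddMonoidHom.ext fun x => ?_))
  obtain ⟨a, rfl⟩ := cl_surj D x
  have htop := Subgroup.eq_top_of_le_card (pre D K ε) (not_lt.mp hlt)
  exact mem_pre.mp (htop ▸ Subgroup.mem_top a)

theorem sub_dat (D : Dat z) {A B : Subgroup E} (hzA : z ∈ A)
    (hAB : ∀ a ∈ A, ∀ b ∈ B, a * b = b * a) (hgen : ∀ e, ∃ a ∈ A, ∃ b ∈ B, a * b = e) :
    Dat (⟨z, hzA⟩ : A) :=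
  D.sub A hzA fun a ha h => D.nondeg a fun e => by
    obtain ⟨a', ha', b, hb, rfl⟩ := hgen e
    rw [← mul_assoc, h a' ha', mul_assoc, hAB a ha b hb, ← mul_assoc]

/-- The extension, by induction on the order. -/
theorem ext_aux (N : ℕ) : ∀ (E : Type u) [Group E] [Fintype E] (z : E), Dat z →
    Nat.card E ≤ N → ∀ (T : Type v) [Group T] [Finite T], IsPGroup 2 T →
      ∀ (φ : T →* MulAut E) (K : Subgroup (MulAut E)), Free (z := z) K →
        (∀ t, ∀ k ∈ K, φ t * k * (φ t)⁻¹ ∈ K) →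
        ∀ (n : Type) [Fintype n] [DecidableEq n] [Nonempty n] (ρ : E →* Matrix n n ℂ),
          Irr ρ → ρ z = -1 → Ext ρ φ := by
  induction N using Nat.strong_induction_on with
  | _ N ih =>
    intro E _ _ z D hN T _ _ hT φ K hK hn n _ _ _ ρ hρ hz
    classical
    by_cases hnt : ∃ a : E, ¬ (a = 1 ∨ a = z)
    swap
    · push Not at hnt
      refine ⟨1, fun t e => ?_⟩
      have he : φ t e = e := by
        by_cases h : e = 1
        · rw [h, map_one]
        · rw [(hnt e).resolve_left h, D.fix]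
      rw [MonoidHom.one_apply, one_mul, mul_one, he]
    -- the inductive step on an invariant subgroup
    have step : ∀ {S : Type v} [Group S] [Finite S], IsPGroup 2 S → ∀ (ψ : S →* MulAut E),
        (∀ t, ∀ k ∈ K, ψ t * k * (ψ t)⁻¹ ∈ K) →
        ∀ (A : Subgroup E) (hzA : z ∈ A), Dat (⟨z, hzA⟩ : A) → Nat.card A < Nat.card E →
        ∀ (hA : ∀ t, ∀ a ∈ A, ψ t a ∈ A), (∀ k : K, ∀ a ∈ A, (k : MulAut E) a ∈ A) →
        ∀ (m : Type) [Fintype m] [DecidableEq m] [Nonempty m] (σ : A →* Matrix m m ℂ),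
          Irr σ → σ ⟨z, hzA⟩ = -1 → Ext σ (restr ψ A hA) := by
      intro S _ _ hS ψ hψ A hzA DA hlt hA hAK m _ _ _ σ hσ hσz
      let r : K →* MulAut A := restr K.subtype A hAK
      haveI := Fintype.ofFinite A
      refine ih (Nat.card A) (lt_of_lt_of_le hlt hN) A _ DA le_rfl S hS _ r.range ⟨?_, ?_⟩ ?_ m σ hσ
        hσz
      · exact hK.1.of_dvd_nat (Subgroup.card_range_dvd r)
      · intro a ha
        exact (hK.2 a fun k hk => congrArg Subtype.val (ha (r ⟨k, hk⟩) ⟨⟨k, hk⟩, rfl⟩)).imp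
          Subtype.ext Subtype.ext
      · rintro t _ ⟨k, rfl⟩
        refine ⟨⟨_, hψ t k k.2⟩, MulEquiv.ext fun a => Subtype.ext ?_⟩
        show (ψ t * (k : MulAut E) * (ψ t)⁻¹) (a : E) = _
        rw [← map_inv ψ, MulAut.mul_apply, MulAut.mul_apply, MulAut.mul_apply, MulAut.mul_apply,
          coe_restr]
        show _ = ψ t ((k : MulAut E) (((restr ψ A hA t)⁻¹ a : A) : E))
        rw [← map_inv (restr ψ A hA), coe_restr]
    rcases exists_config D hn hT hK.1 hK.2 hnt with hS | hW | hL | hU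
    · obtain ⟨ε, ⟨hee, hse, h0, h1⟩, hfix⟩ := hS
      obtain ⟨hAB, hint, hgen⟩ := pre_facts hee hse
      set A := pre D K ε
      set B := pre D K (1 - ε)
      have hzA : z ∈ A := z_mem_pre ε
      have hzB : z ∈ B := z_mem_pre _
      have DA : Dat (⟨z, hzA⟩ : A) := sub_dat D hzA hAB hgen
      have DB : Dat (⟨z, hzB⟩ : B) := sub_dat D hzB (fun b hb a ha => (hAB a ha b hb).symm)
        fun e => by
          obtain ⟨a, ha, b, hb, rfl⟩ := hgen e
          exact ⟨b, hb, a, ha, (hAB a ha b hb).symm⟩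
      haveI := Fintype.ofFinite A
      haveI := Fintype.ofFinite B
      obtain ⟨NA, ρA, hNA, hρA, hzA'⟩ := exists_faithful DA
      obtain ⟨NB, ρB, hNB, hρB, hzB'⟩ := exists_faithful DB
      haveI : NeZero NA := ⟨hNA.ne'⟩
      haveI : NeZero NB := ⟨hNB.ne'⟩
      obtain ⟨Ψ, hΨ⟩ := exists_pair D hρ hz hzA hzB hAB hint hgen hρA hzA' hρB hzB'
      have hA : ∀ t, ∀ a ∈ A, φ t a ∈ A := fun t a ha => map_pre (hn t) (hfix t) ha
      have hB : ∀ t, ∀ b ∈ B, φ t b ∈ B := fun t b hb => map_pre (hn t)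
        (show cj D K (hn t) (1 - ε) = 1 - ε by
          rw [map_sub, map_one]; exact congrArg (1 - ·) (hfix t)) hb
      exact ext_split Ψ hΨ hgen hA hB
        (step hT φ hn A hzA DA (pre_lt h1) hA (fun k a ha => K_pre _ k.2 ha) _ ρA hρA hzA')
        (step hT φ hn B hzB DB (pre_lt (fun h => h0 (by linear_combination -h))) hB
          (fun k a ha => K_pre _ k.2 ha) _ ρB hρB hzB')
    · obtain ⟨ε, ⟨hee, hse, h0, h1⟩, T₁, t, hT₁, hgenT, ht2, hfix, hsw⟩ := hW
      obtain ⟨hAB, hint, hgen⟩ := pre_facts hee hse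
      set A := pre D K ε
      set B := pre D K (1 - ε)
      have hzA : z ∈ A := z_mem_pre ε
      have hzB : z ∈ B := z_mem_pre _
      have DA : Dat (⟨z, hzA⟩ : A) := sub_dat D hzA hAB hgen
      haveI := Fintype.ofFinite A
      haveI := Fintype.ofFinite B
      obtain ⟨NA, ρA, hNA, hρA, hzA'⟩ := exists_faithful DA
      haveI : NeZero NA := ⟨hNA.ne'⟩
      have hsw' : cjT D hn t (1 - ε) = ε := by
        rw [map_sub, map_one, hsw, sub_sub_cancel]
      have hti' : cjT D hn t⁻¹ (1 - ε) = ε := by rw [← hsw, cjT_inv]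
      have htA : ∀ a ∈ A, φ t a ∈ B := fun a ha => map_pre (hn t) hsw ha
      have htB : ∀ b ∈ B, φ t b ∈ A := fun b hb => map_pre (hn t) hsw' hb
      have hti : ∀ b ∈ B, φ t⁻¹ b ∈ A := fun b hb => map_pre (hn t⁻¹) hti' hb
      let c : B →* A :=
        { toFun := fun b => ⟨φ t⁻¹ b, hti b b.2⟩
          map_one' := Subtype.ext (map_one _)
          map_mul' := fun a b => Subtype.ext (map_mul _ _ _) }
      have hc : Function.Surjective c := fun a => ⟨⟨φ t a, htA a a.2⟩, Subtype.ext (by simp [c])⟩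
      have hρB : Irr (ρA.comp c) := fun X hX => hρA X fun a => by
        obtain ⟨b, rfl⟩ := hc a
        exact hX b
      have hzB' : (ρA.comp c) ⟨z, hzB⟩ = -1 := by
        rw [MonoidHom.comp_apply, ← hzA']
        exact congrArg ρA (Subtype.ext (D.fix _))
      obtain ⟨Ψ, hΨ⟩ := exists_pair D hρ hz hzA hzB hAB hint hgen hρA hzA' hρB hzB'
      have hA : ∀ s : T₁, ∀ a ∈ A, φ s a ∈ A := fun s a ha => map_pre (hn s) (hfix s s.2) ha
      exact ext_swap hρ hAB hgen T₁ t hgenT ht2 hA htA htB hti Ψ hΨ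
        (step (hT.to_subgroup T₁) (φ.comp T₁.subtype) (fun s k hk => hn s k hk) A hzA DA
          (pre_lt h1) hA (fun k a ha => K_pre _ k.2 ha) _ ρA hρA hzA')
    · exact Lagrangian.ext_lagr D hρ hz hK hn hL
    · obtain ⟨u, q, hq, hq2, hu, huq, hfree, hj⟩ := hU
      obtain ⟨β, hβK, hβ⟩ := exists_lift K hK u hu
      have hcomm : ∀ (i : ℕ), ∀ k ∈ K, β ^ i * k = k * β ^ i := fun i k hk =>
        (Commute.pow_left (hβK k hk : Commute β k) i).eq
      have hactpow : ∀ i : ℕ, act D (β ^ i) = ((u ^ i : R D K) : AddMonoid.End (V D)) := fun i => by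
        rw [map_pow, hβ, SubmonoidClass.coe_pow]
      refine Field.ext_field D hρ hz hT hq hq2 ?_ (fun x hx => hfree x (by rwa [← hβ])) hnt
        fun t => ?_
      · exact eq_of_act (D := D) K hK (hcomm q) (fun k _ => by simp) (by rw [hactpow, huq, map_one]; rfl)
      · obtain ⟨i, hi⟩ := hj t
        refine ⟨i, eq_of_act (D := D) K hK (fun k hk => ?_) (hcomm i) ?_⟩
        · have hk' : (φ t)⁻¹ * k * φ t ∈ K := by
            have := hn t⁻¹ k hk
            rwa [map_inv, inv_inv] at this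
          calc φ t * β * (φ t)⁻¹ * k = φ t * (β * ((φ t)⁻¹ * k * φ t)) * (φ t)⁻¹ := by group
            _ = k * (φ t * β * (φ t)⁻¹) := by rw [hβK _ hk']; group
        · rw [map_mul, map_mul, hβ, hactpow, ← hi]
          rfl

end Cfsg.Agent.Lib.MagicExt.Main
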