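import Cfsg.Agent.Lib.MagicExt.Linear

/-!
# Matrices of finite order

Spectral idempotents, determinants from traces, traces of prime powers modulo the prime, and a
constancy criterion for traces along a cyclic group of odd prime order.
-/

set_option autoImplicit false
set_option linter.unusedSectionVars false

namespace Cfsg.Agent.Lib.MagicExt.Spectral

open Matrix hiding mul_inv_rev
open Cfsg.Agent.Lib.MagicExt.Linear

variable {n : Type} [Fintype n] [DecidableEq n]

theorem pow_val_mul {D : ℕ} {C : Matrix n n ℂ} (h : C ^ D = 1) (k : ℕ) : C ^ (k % D) = C ^ k := by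
  conv_rhs => rw [← Nat.mod_add_div k D, pow_add, pow_mul, h, one_pow, mul_one]

theorem pow_val_add {D : ℕ} [NeZero D] {C : Matrix n n ℂ} (h : C ^ D = 1) (a b : ZMod D) :
    C ^ (a + b).val = C ^ a.val * C ^ b.val := by
  rw [ZMod.val_add, pow_val_mul h, pow_add]

/-- The projection on the fixed vectors. -/
noncomputable def proj (D : ℕ) [NeZero D] (C : Matrix n n ℂ) : Matrix n n ℂ :=
  (D : ℂ)⁻¹ • ∑ k : ZMod D, C ^ k.val

theorem mul_proj {D : ℕ} [NeZero D] {C : Matrix n n ℂ} (h : C ^ D = 1) :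
    C * proj D C = proj D C := by
  rw [proj, mul_smul_comm, Finset.mul_sum]
  congr 1
  refine Fintype.sum_equiv (Equiv.addLeft (1 : ZMod D)) _ _ fun k => ?_
  rw [Equiv.coe_addLeft, pow_val_add h, ZMod.val_one_eq_one_mod, pow_val_mul h, pow_one]

theorem proj_idem {D : ℕ} [NeZero D] {C : Matrix n n ℂ} (h : C ^ D = 1) :
    proj D C * proj D C = proj D C := by
  have hp : ∀ k : ℕ, C ^ k * proj D C = proj D C := fun k => by
    induction k with
    | zero => rw [pow_zero, one_mul]
    | succ k ih => rw [pow_succ, mul_assoc, mul_proj h, ih]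
  calc proj D C * proj D C = (D : ℂ)⁻¹ • ∑ k : ZMod D, C ^ k.val * proj D C := by
        rw [← Finset.sum_mul, ← smul_mul_assoc]; rfl
    _ = proj D C := by
        simp only [hp, Finset.sum_const, Finset.card_univ, ZMod.card]
        rw [← Nat.cast_smul_eq_nsmul ℂ, smul_smul,
          inv_mul_cancel₀ (Nat.cast_ne_zero.mpr (NeZero.ne D)), one_smul]

theorem commute_proj {D : ℕ} [NeZero D] {C X : Matrix n n ℂ} (h : X * C = C * X) :
    X * proj D C = proj D C * X := by
  rw [proj, mul_smul_comm, smul_mul_assoc, Finset.mul_sum, Finset.sum_mul]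
  congr 1
  exact Finset.sum_congr rfl fun k _ => (Commute.pow_right h k.val).eq

theorem proj_pow {D : ℕ} [NeZero D] {C : Matrix n n ℂ} (h : C ^ D = 1) {j : ℕ}
    (hj : j.Coprime D) : proj D (C ^ j) = proj D C := by
  rw [proj, proj]
  congr 1
  let u := ZMod.unitOfCoprime j hj
  refine Fintype.sum_equiv (Units.mulLeft u) _ _ fun k => ?_
  rw [Units.mulLeft_apply, ← pow_mul, ZMod.val_mul, pow_val_mul h, ZMod.coe_unitOfCoprime]
  conv_lhs => rw [← pow_val_mul h, Nat.mul_mod]
  conv_rhs => rw [ZMod.val_natCast, ← pow_val_mul h, Nat.mul_mod, Nat.mod_mod]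

/-- The spectral idempotent. -/
noncomputable def eig (D : ℕ) [NeZero D] (X : Matrix n n ℂ) (η : ℂ) : Matrix n n ℂ :=
  proj D (η⁻¹ • X)

section

variable {D : ℕ} [NeZero D] {X : Matrix n n ℂ} (hX : X ^ D = 1)

theorem inv_smul_pow {η : ℂ} (hη : η ^ D = 1) (hX : X ^ D = 1) : (η⁻¹ • X) ^ D = 1 := by
  rw [smul_pow, inv_pow, hη, inv_one, one_smul, hX]

theorem ne_zero_of_pow {η : ℂ} (hη : η ^ D = 1) : η ≠ 0 := fun h => by
  rw [h, zero_pow (NeZero.ne D)] at hη
  exact zero_ne_one hη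

include hX in
theorem mul_eig {η : ℂ} (hη : η ^ D = 1) : X * eig D X η = η • eig D X η := by
  have h := mul_proj (inv_smul_pow hη hX)
  rw [smul_mul_assoc] at h
  calc X * eig D X η = η • (η⁻¹ • (X * eig D X η)) := by
        rw [smul_smul, mul_inv_cancel₀ (ne_zero_of_pow hη), one_smul]
    _ = η • eig D X η := congrArg (η • ·) h

include hX in
theorem eig_orth {η θ : ℂ} (hη : η ^ D = 1) (hθ : θ ^ D = 1) (hne : η ≠ θ) :
    eig D X η * eig D X θ = 0 := by
  have hc : X * eig D X η = eig D X η * X :=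
    commute_proj (by rw [mul_smul_comm, smul_mul_assoc])
  have h1 : X * (eig D X η * eig D X θ) = η • (eig D X η * eig D X θ) := by
    rw [← mul_assoc, mul_eig hX hη, smul_mul_assoc]
  have h2 : X * (eig D X η * eig D X θ) = θ • (eig D X η * eig D X θ) := by
    rw [← mul_assoc, hc, mul_assoc, mul_eig hX hθ, mul_smul_comm]
  exact (smul_eq_zero.mp (show (η - θ) • _ = (0 : Matrix n n ℂ) by
    rw [sub_smul, ← h1, ← h2, sub_self])).resolve_left (sub_ne_zero.mpr hne)

theorem trace_eig (η : ℂ) :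
    trace (eig D X η) = (D : ℂ)⁻¹ * ∑ k : ZMod D, η⁻¹ ^ k.val * trace (X ^ k.val) := by
  simp only [eig, proj, trace_smul, trace_sum, smul_pow, smul_eq_mul]

include hX in
theorem exists_mult {η : ℂ} (hη : η ^ D = 1) : ∃ m : ℕ, Nonempty (Fact' (eig D X η) m) :=
  exists_fact (proj_idem (inv_smul_pow hη hX))

variable {ζ : ℂ} (hζ : IsPrimitiveRoot ζ D)

include hζ in
theorem pow_root (i : ZMod D) : (ζ ^ i.val) ^ D = 1 := by
  rw [← pow_mul, mul_comm, pow_mul, hζ.pow_eq_one, one_pow]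

include hζ in
theorem root_inj {i j : ZMod D} (h : ζ ^ i.val = ζ ^ j.val) : i = j :=
  ZMod.val_injective D (hζ.pow_inj i.val_lt j.val_lt h)

include hX hζ in
theorem sum_eig : ∑ i : ZMod D, eig D X (ζ ^ i.val) = 1 := by
  simp only [eig, proj, ← Finset.smul_sum, smul_pow]
  rw [Finset.sum_comm]
  simp only [← Finset.sum_smul]
  rw [Finset.sum_eq_single (0 : ZMod D)]
  · simp only [ZMod.val_zero, pow_zero, Finset.sum_const, Finset.card_univ, ZMod.card, nsmul_eq_mul,
      mul_one, smul_smul]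
    rw [inv_mul_cancel₀ (Nat.cast_ne_zero.mpr (NeZero.ne D)), one_smul]
  · intro k _ hk
    have hne : ((ζ⁻¹) ^ k.val) ≠ 1 := fun h => by
      rw [inv_pow, inv_eq_one] at h
      exact hk (root_inj hζ (j := (0 : ZMod D)) (by rw [h, ZMod.val_zero, pow_zero]))
    have hpow : ((ζ⁻¹) ^ k.val) ^ D = 1 := by
      rw [inv_pow, inv_pow, pow_root hζ, inv_one]
    have h0 : ∑ i : ZMod D, ((ζ ^ i.val)⁻¹) ^ k.val = 0 := by
      have hg := geom_sum_eq hne D
      rw [hpow, sub_self, zero_div] at hg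
      rw [← hg]
      refine Finset.sum_nbij' (fun i => i.val) (fun j => (j : ZMod D)) ?_ ?_ ?_ ?_ ?_
      · exact fun i _ => Finset.mem_range.mpr i.val_lt
      · exact fun j _ => Finset.mem_univ _
      · exact fun i _ => ZMod.natCast_zmod_val i
      · exact fun j hj => ZMod.val_natCast_of_lt (Finset.mem_range.mp hj)
      · intro i _
        rw [← inv_pow, ← pow_mul, ← pow_mul, mul_comm]
    rw [h0, zero_smul]
  · simp

include hX hζ in
theorem pow_eq_sum (k : ℕ) :
    X ^ k = ∑ i : ZMod D, (ζ ^ i.val) ^ k • eig D X (ζ ^ i.val) := by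
  induction k with
  | zero => simp [sum_eig hX hζ]
  | succ k ih =>
    rw [pow_succ', ih, Finset.mul_sum]
    refine Finset.sum_congr rfl fun i _ => ?_
    rw [mul_smul_comm, mul_eig hX (pow_root hζ i), smul_smul, pow_succ]

theorem det_one_add_smul {P : Matrix n n ℂ} {m : ℕ} (F : Fact' P m) (c : ℂ) :
    det (1 + c • P) = (1 + c) ^ m := by
  rw [← F.mul_eq, ← Matrix.smul_mul, det_one_add_mul_comm, Matrix.mul_smul, F.one_eq,
    show (1 : Matrix (Fin m) (Fin m) ℂ) + c • 1 = (1 + c) • 1 by rw [add_smul, one_smul], det_smul,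
    det_one, mul_one, Fintype.card_fin]

include hX hζ in
theorem det_eq_prod {m : ZMod D → ℕ} (F : ∀ i, Fact' (eig D X (ζ ^ i.val)) (m i)) :
    det X = ∏ i, (ζ ^ i.val) ^ m i := by
  classical
  let c : ZMod D → ℂ := fun i => ζ ^ i.val - 1
  have key : ∀ S : Finset (ZMod D),
      det (1 + ∑ i ∈ S, c i • eig D X (ζ ^ i.val)) = ∏ i ∈ S, (1 + c i) ^ m i := fun S => by
    induction S using Finset.induction_on with
    | empty => simp
    | @insert a S ha ih =>
      rw [Finset.prod_insert ha, ← ih, ← det_one_add_smul (F a), ← det_mul, Finset.sum_insert ha]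
      congr 1
      have h0 : c a • eig D X (ζ ^ a.val) * ∑ i ∈ S, c i • eig D X (ζ ^ i.val) = 0 := by
        rw [Finset.mul_sum]
        refine Finset.sum_eq_zero fun i hi => ?_
        rw [smul_mul_smul_comm, eig_orth hX (pow_root hζ a) (pow_root hζ i)
          fun h => ha (root_inj hζ h ▸ hi), smul_zero]
      rw [mul_add, add_mul, add_mul, one_mul, one_mul, mul_one, h0, add_zero]
      abel
  have h := key Finset.univ
  have hX' : 1 + ∑ i, c i • eig D X (ζ ^ i.val) = X := by
    simp only [c, sub_smul, one_smul, Finset.sum_sub_distrib, sum_eig hX hζ]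
    rw [add_sub_cancel]
    conv_rhs => rw [← pow_one X, pow_eq_sum hX hζ 1]
    simp only [pow_one]
  rw [hX'] at h
  simpa [c] using h

end

/-- Matrices of finite order with equal traces of powers have equal determinants. -/
theorem det_eq_of_trace {n' : Type} [Fintype n'] [DecidableEq n'] {D : ℕ} [NeZero D]
    {X : Matrix n n ℂ} {Y : Matrix n' n' ℂ} (hX : X ^ D = 1) (hY : Y ^ D = 1)
    (h : ∀ k : ℕ, trace (X ^ k) = trace (Y ^ k)) : det X = det Y := by
  have hζ := Complex.isPrimitiveRoot_exp D (NeZero.ne D)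
  choose m hm using fun i => exists_mult hX (pow_root hζ i)
  choose m' hm' using fun i => exists_mult hY (pow_root hζ i)
  rw [det_eq_prod hX hζ fun i => (hm i).some, det_eq_prod hY hζ fun i => (hm' i).some]
  refine Finset.prod_congr rfl fun i _ => congrArg _ ?_
  have h1 := (hm i).some.trace_eq
  rw [trace_eig] at h1
  have h2 := (hm' i).some.trace_eq
  rw [trace_eig] at h2
  simp only [h] at h1
  exact Nat.cast_injective (R := ℂ) (h1.symm.trans h2)

/-- The determinant on the image of an idempotent, in the whole space. -/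
theorem dt_eq_det {P : Matrix n n ℂ} {m : ℕ} (F : Fact' P m) (X : Matrix n n ℂ) :
    F.dt X = det (1 + (X - 1) * P) := by
  conv_rhs => rw [← F.mul_eq]
  rw [← Matrix.mul_assoc, det_one_add_mul_comm, ← Matrix.mul_assoc, Fact'.dt,
    Matrix.mul_sub, Matrix.mul_one, Matrix.sub_mul, F.one_eq, add_sub_cancel]

theorem isIntegral_root {D : ℕ} [NeZero D] {η : ℂ} (h : η ^ D = 1) : IsIntegral ℤ η :=
  IsIntegral.of_pow (NeZero.pos D) (h ▸ isIntegral_one)

theorem isIntegral_trace {D : ℕ} [NeZero D] {X : Matrix n n ℂ} (hX : X ^ D = 1) :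
    IsIntegral ℤ (trace X) := by
  have hζ := Complex.isPrimitiveRoot_exp D (NeZero.ne D)
  choose m hm using fun i => exists_mult hX (pow_root hζ i)
  rw [← pow_one X, pow_eq_sum hX hζ, trace_sum]
  refine IsIntegral.sum _ fun i _ => ?_
  rw [trace_smul, (hm i).some.trace_eq, smul_eq_mul]
  exact ((isIntegral_root (pow_root hζ i)).pow 1).mul
    (IsIntegral.algebraMap (B := ℂ) (isIntegral_algebraMap (R := ℤ) (A := ℤ) (x := (m i : ℤ))) :)

/-- Fermat's congruence for traces. -/
theorem trace_pow_prime {q : ℕ} (hq : q.Prime) {D : ℕ} [NeZero D] {X : Matrix n n ℂ}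
    (hX : X ^ D = 1) : ∃ a : ℂ, IsIntegral ℤ a ∧ trace X ^ q - trace (X ^ q) = q * a := by
  have hζ := Complex.isPrimitiveRoot_exp D (NeZero.ne D)
  choose m hm using fun i => exists_mult hX (pow_root hζ i)
  let O := integralClosure ℤ ℂ
  let r : ZMod D → O := fun i => ⟨_, isIntegral_root (pow_root hζ i)⟩
  have htr : ∀ k, trace (X ^ k) = (((∑ i, r i ^ k * (m i : O)) : O) : ℂ) := fun k => by
    rw [pow_eq_sum hX hζ, trace_sum]
    push_cast
    simp [r, (hm _).some.trace_eq]
  have h1 : trace X = (((∑ i, r i * (m i : O)) : O) : ℂ) := by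
    have := htr 1
    simpa using this
  let I : Ideal O := Ideal.span {(q : O)}
  suffices hmem : (∑ i, r i * (m i : O)) ^ q - ∑ i, r i ^ q * (m i : O) ∈ I by
    obtain ⟨a, ha⟩ := Ideal.mem_span_singleton'.mp hmem
    refine ⟨a, a.2, ?_⟩
    rw [h1, htr, mul_comm]
    have := congrArg (Subtype.val : O → ℂ) ha
    push_cast at this ⊢
    exact this.symm
  have hne : I ≠ ⊤ := fun h => by
    obtain ⟨a, ha⟩ := Ideal.mem_span_singleton'.mp ((Ideal.eq_top_iff_one I).mp h)
    have hq0 : (q : ℂ) ≠ 0 := Nat.cast_ne_zero.mpr hq.ne_zero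
    have ha' : (a : ℂ) = ((1 / q : ℚ) : ℂ) := by
      have := congrArg (Subtype.val : O → ℂ) ha
      push_cast at this ⊢
      rw [eq_div_iff hq0, this]
    have hi : IsIntegral ℤ (1 / q : ℚ) := (isIntegral_algebraMap_iff
      (algebraMap ℚ ℂ).injective).mp (by rw [eq_ratCast, ← ha']; exact a.2)
    obtain ⟨z, hz⟩ := IsIntegrallyClosed.isIntegral_iff.mp hi
    rw [eq_div_iff (Nat.cast_ne_zero.mpr hq.ne_zero)] at hz
    rw [eq_intCast] at hz
    have hzq : (z * q : ℤ) = 1 := by exact_mod_cast hz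
    have := Int.eq_one_of_mul_eq_one_left (by positivity : (0 : ℤ) ≤ q) hzq
    exact hq.ne_one (by exact_mod_cast this)
  haveI := Fact.mk hq
  haveI : Nontrivial (O ⧸ I) := Ideal.Quotient.nontrivial_iff.mpr hne
  haveI : CharP (O ⧸ I) q := CharP.quotient O q fun hu =>
    hne (Ideal.span_singleton_eq_top.mpr hu)
  rw [← Ideal.Quotient.eq_zero_iff_mem, map_sub, map_pow, map_sum, sum_pow_char, map_sum,
    sub_eq_zero]
  refine Finset.sum_congr rfl fun i _ => ?_
  rw [map_mul, mul_pow, map_mul, map_pow, map_natCast, ← frobenius_def, ← frobenius_def,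
    map_natCast]

theorem rat_unit {r : ℚ} {a b : ℂ} (ha : IsIntegral ℤ a) (hb : IsIntegral ℤ b) (hr : (r : ℂ) = a)
    (hab : a * b = 1) : r = 1 ∨ r = -1 := by
  have hr0 : r ≠ 0 := fun h => by simp [← hr, h] at hab
  have hi : IsIntegral ℤ r := (isIntegral_algebraMap_iff (algebraMap ℚ ℂ).injective).mp
    (by rw [eq_ratCast, hr]; exact ha)
  have hj : IsIntegral ℤ r⁻¹ := (isIntegral_algebraMap_iff (algebraMap ℚ ℂ).injective).mp (by
    rw [eq_ratCast, Rat.cast_inv, hr, inv_eq_of_mul_eq_one_right hab]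
    exact hb)
  obtain ⟨x, hx⟩ := IsIntegrallyClosed.isIntegral_iff.mp hi
  obtain ⟨y, hy⟩ := IsIntegrallyClosed.isIntegral_iff.mp hj
  have hxy : x * y = 1 := by
    have : (x : ℚ) * y = 1 := by
      rw [← eq_intCast (algebraMap ℤ ℚ), ← eq_intCast (algebraMap ℤ ℚ), hx, hy, mul_inv_cancel₀ hr0]
    exact_mod_cast this
  rcases Int.eq_one_or_neg_one_of_mul_eq_one hxy with h | h
  · exact Or.inl (by rw [← hx, h]; simp)
  · exact Or.inr (by rw [← hx, h]; simp)

/-- The rationals inside the complex numbers. -/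
noncomputable abbrev Kq : Subfield ℂ := (Rat.castHom ℂ).fieldRange

/-- Along the nontrivial powers of an element of odd prime order, a rational line of unit traces is
constant. -/
theorem trace_const {q D : ℕ} [NeZero D] (hq : q.Prime) (hq2 : q ≠ 2) {S Q : Matrix n n ℂ}
    (hS : S ^ D = 1) (hQ : Q ^ q = 1) (hSQ : S * Q = Q * S)
    (hunit : ∀ l : ℕ, ¬ q ∣ l →
      trace (S * Q ^ l) * trace ((S * Q ^ l) ^ (D * q - 1)) = 1)
    {c : ℂ} (hc : c ≠ 0) (hrat : ∀ l : ℕ, c * trace (S * Q ^ l) ∈ Kq) {l : ℕ} (hl : ¬ q ∣ l) :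
    trace (S * Q ^ l) = trace (S * Q) := by
  haveI : NeZero (D * q) := ⟨Nat.mul_ne_zero (NeZero.ne D) hq.ne_zero⟩
  have hfin : ∀ j, (S * Q ^ j) ^ (D * q) = 1 := fun j => by
    rw [(Commute.pow_right hSQ j).mul_pow, pow_mul, hS, one_pow, one_mul, ← pow_mul,
      show j * (D * q) = q * (j * D) by ring, pow_mul, hQ, one_pow]
  have hint : ∀ j k, IsIntegral ℤ (trace ((S * Q ^ j) ^ k)) := fun j k =>
    isIntegral_trace (D := D * q) (by rw [← pow_mul, mul_comm, pow_mul, hfin, one_pow])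
  have hl1 : ¬ q ∣ 1 := fun h => hq.ne_one (Nat.dvd_one.mp h)
  set t : ℕ → ℂ := fun j => trace (S * Q ^ j) with ht
  set t' : ℕ → ℂ := fun j => trace ((S * Q ^ j) ^ (D * q - 1)) with ht'
  have hti : ∀ j, IsIntegral ℤ (t j) := fun j => by simpa [ht] using hint j 1
  have hu1 : t 1 * t' 1 = 1 := hunit 1 hl1
  have hul : t l * t' l = 1 := hunit l hl
  have h10 : t 1 ≠ 0 := left_ne_zero_of_mul_eq_one hu1
  obtain ⟨r, hr⟩ : ∃ r : ℚ, (r : ℂ) = t l * t' 1 := by
    obtain ⟨r, hr⟩ := RingHom.mem_fieldRange.mp (Subfield.div_mem _ (hrat l) (hrat 1))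
    refine ⟨r, ?_⟩
    rw [Rat.castHom] at hr
    show (r : ℂ) = _
    rw [show t' 1 = (t 1)⁻¹ from eq_inv_of_mul_eq_one_right hu1, ← div_eq_mul_inv,
      ← mul_div_mul_left (t l) (t 1) hc]
    exact hr
  have hlr : t l = r * t 1 := by rw [hr, mul_assoc, mul_comm (t' 1), hu1, mul_one]
  have hrabs : r = 1 ∨ r = -1 := by
    refine rat_unit ((hti l).mul (hint 1 _)) ((hti 1).mul (hint l (D * q - 1))) hr ?_
    linear_combination (t l * t' l) * hu1 + hul
  rcases hrabs with h | h
  · simpa [ht, h] using hlr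
  · exfalso
    obtain ⟨a, hai, ha⟩ := trace_pow_prime hq (D := D * q) (hfin l)
    obtain ⟨b, hbi, hb⟩ := trace_pow_prime hq (D := D * q) (hfin 1)
    have hSq : ∀ j, (S * Q ^ j) ^ q = S ^ q := fun j => by
      rw [(Commute.pow_right hSQ j).mul_pow, ← pow_mul, mul_comm j, pow_mul, hQ, one_pow, mul_one]
    rw [hSq] at ha hb
    have hodd : Odd q := hq.odd_of_ne_two hq2
    have h2 : (2 : ℂ) = (q : ℂ) * ((b - a) * t' 1 ^ q) := by
      have e1 : t l ^ q = - t 1 ^ q := by rw [hlr, h]; push_cast; rw [neg_one_mul, hodd.neg_pow]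
      have e2 : t 1 ^ q * t' 1 ^ q = 1 := by rw [← mul_pow, hu1, one_pow]
      have e3 : (q : ℂ) * (b - a) = 2 * t 1 ^ q := by
        linear_combination (exp := 1) ha - hb - e1
      linear_combination -2 * e2 - t' 1 ^ q * e3
    have hq0 : (q : ℂ) ≠ 0 := Nat.cast_ne_zero.mpr hq.ne_zero
    have hi : IsIntegral ℤ (2 / q : ℚ) := (isIntegral_algebraMap_iff
      (algebraMap ℚ ℂ).injective).mp (by
        rw [eq_ratCast]; push_cast
        rw [show (2 : ℂ) / q = (b - a) * t' 1 ^ q by rw [div_eq_iff hq0, h2]; ring]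
        exact (hbi.sub hai).mul ((hint 1 _).pow q))
    obtain ⟨z, hz⟩ := IsIntegrallyClosed.isIntegral_iff.mp hi
    rw [eq_div_iff (Nat.cast_ne_zero.mpr hq.ne_zero)] at hz
    rw [eq_intCast] at hz
    have hz' : z * (q : ℤ) = 2 := by exact_mod_cast hz
    have hdvd : q ∣ 2 := by
      exact_mod_cast (Int.natCast_dvd_natCast (m := q) (n := 2)).mp ⟨z, by push_cast; linarith⟩
    exact hq2 ((Nat.prime_dvd_prime_iff_eq hq Nat.prime_two).mp hdvd)

end Cfsg.Agent.Lib.MagicExt.Spectral
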