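import Cfsg.Agent.Lib.MagicExt.Datum
import Cfsg.Agent.Lib.MagicExt.Spectral

/-!
# Intertwiners with rational traces
-/

set_option autoImplicit false
set_option linter.unusedSectionVars false

namespace Cfsg.Agent.Lib.MagicExt.Rational

open Matrix hiding mul_inv_rev
open Cfsg.Agent.Lib.MagicExt.Linear Cfsg.Agent.Lib.MagicExt.Extend
open Cfsg.Agent.Lib.MagicExt.Datum Cfsg.Agent.Lib.MagicExt.Spectral

universe u

variable {n : Type} [Fintype n] [DecidableEq n] [Nonempty n] {E : Type u} [Group E] [Fintype E]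
  {z : E} {ρ : E →* Matrix n n ℂ}

/-- Rational against every representing matrix. -/
def Rt (ρ : E →* Matrix n n ℂ) (A : Matrix n n ℂ) : Prop := ∀ e, trace (A * ρ e) ∈ Kq

theorem Rt.tr {A : Matrix n n ℂ} (h : Rt ρ A) : trace A ∈ Kq := by
  simpa using h 1

variable (D : Dat z) (hρ : Irr ρ) (hz : ρ z = -1)

include D hz in
theorem rt_rho (a : E) : Rt ρ (ρ a) := fun e => by
  rw [← map_mul]
  by_cases h : a * e = 1 ∨ a * e = z
  · rcases h with h | h <;> simp [h, hz, natCast_mem]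
  · rw [trace_eq_zero D hz h]
    exact zero_mem _

include hρ in
theorem Rt.mul {A B : Matrix n n ℂ} (hA : Rt ρ A) (hB : Rt ρ B) : Rt ρ (A * B) := fun x => by
  have h := reconstruct hρ B
  have h' : B = ((Fintype.card E : ℂ) / Fintype.card n)⁻¹ • ∑ e, trace (B * ρ e) • ρ e⁻¹ := by
    rw [← h, smul_smul, inv_mul_cancel₀ coeff_ne_zero, one_smul]
  rw [h']
  simp only [Matrix.mul_smul, Finset.mul_sum, Matrix.smul_mul, Finset.sum_mul, trace_smul,
    trace_sum, smul_eq_mul, mul_assoc, ← map_mul]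
  exact sum_mem fun e _ => mul_mem (inv_mem (div_mem (natCast_mem _ _) (natCast_mem _ _)))
    (mul_mem (hB e) (hA _))

include D hz hρ in
theorem Rt.pow {A : Matrix n n ℂ} (hA : Rt ρ A) : ∀ k : ℕ, Rt ρ (A ^ k)
  | 0 => by simpa using rt_rho D hz 1
  | k + 1 => by rw [pow_succ]; exact Rt.mul hρ (Rt.pow hA k) hA

include D hz hρ in
/-- An intertwiner is rational up to a scalar. -/
theorem exists_rt (a : MulAut E) {X : Matrix n n ℂ} (hX : IsUnit X)
    (hi : ∀ e, X * ρ e = ρ (a e) * X) : ∃ c : ℂ, c ≠ 0 ∧ Rt ρ (c • X) := by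
  classical
  let Y : E → Matrix n n ℂ := fun e₀ => ∑ x, ρ (a x) * ρ e₀ * ρ x⁻¹
  have hY : ∀ e₀ e, Y e₀ * ρ e = ρ (a e) * Y e₀ := fun e₀ e => by
    simp only [Y, Finset.sum_mul, Finset.mul_sum]
    refine (Fintype.sum_equiv (Equiv.mulLeft e) _ _ fun x => ?_).symm
    rw [Equiv.coe_mulLeft, map_mul a, map_mul, mul_inv_rev, map_mul ρ x⁻¹]
    simp only [mul_assoc, Linear.inv_mul, mul_one]
  have hYr : ∀ e₀, Rt ρ (Y e₀) := fun e₀ e => by
    simp only [Y, Finset.sum_mul, trace_sum, ← map_mul]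
    refine sum_mem fun x _ => ?_
    simpa using rt_rho D hz (a x * e₀ * x⁻¹ * e) 1
  obtain ⟨e₀, he₀⟩ : ∃ e₀, Y e₀ ≠ 0 := by
    by_contra! h
    obtain ⟨U, rfl⟩ := hX
    -- feed the intertwiner itself into the average
    have h1 : ∑ x, ρ (a x) * (U : Matrix n n ℂ) * ρ x⁻¹ = 0 := by
      have hrec := reconstruct hρ (U : Matrix n n ℂ)
      have h2 := congrArg (fun B => ∑ x, ρ (a x) * B * ρ x⁻¹) hrec
      simp only [Matrix.mul_smul, Matrix.smul_mul, Finset.mul_sum, Finset.sum_mul,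
        ← Finset.smul_sum] at h2
      rw [Finset.sum_comm] at h2
      simp only [← Finset.smul_sum] at h2
      have h3 : ∀ e, ∑ x, ρ (a x) * ρ e⁻¹ * ρ x⁻¹ = 0 := fun e => h e⁻¹
      simp only [h3, smul_zero, Finset.sum_const_zero] at h2
      exact (smul_eq_zero.mp h2).resolve_left coeff_ne_zero
    simp only [← hi, mul_assoc, ← map_mul, mul_inv_cancel, map_one, mul_one, Finset.sum_const,
      Finset.card_univ] at h1
    rw [← Nat.cast_smul_eq_nsmul ℂ] at h1
    exact U.ne_zero ((smul_eq_zero.mp h1).resolve_left (Nat.cast_ne_zero.mpr Fintype.card_ne_zero))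
  obtain ⟨c, hc⟩ := scalar_of hρ hX (hY e₀) hi
  exact ⟨c, fun h => he₀ (by rw [hc, h, zero_smul]), hc ▸ hYr e₀⟩

include D hz hρ in
/-- An automorphism without fixed points has intertwiners of unit trace. -/
theorem trace_mul_trace_inv (a : MulAut E) (hfix : ∀ e, e * (a e)⁻¹ = 1 ∨ e * (a e)⁻¹ = z →
      e = 1 ∨ e = z) {X X' : Matrix n n ℂ} (hX : ∀ e, X * ρ e = ρ (a e) * X) (hXX' : X * X' = 1) :
    trace X * trace X' = 1 := by
  classical
  have h := congrArg (fun A => trace (A * X')) (avg hρ X)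
  simp only [Finset.sum_mul, trace_sum, Matrix.smul_mul, one_mul, trace_smul, smul_eq_mul] at h
  have h1 : ∀ e, trace (ρ e * X * ρ e⁻¹ * X') = trace (ρ (e * (a e)⁻¹)) := fun e => by
    rw [mul_assoc (ρ e) X, hX, mul_assoc, mul_assoc, hXX', mul_one, ← map_mul, map_inv]
  simp only [h1] at h
  rw [← Finset.sum_subset (Finset.subset_univ {1, z}) fun e _ he => trace_eq_zero D hz fun h' =>
    (by simpa using he : ¬ (e = 1 ∨ e = z)) (hfix e h'), Finset.sum_pair (Ne.symm D.ne)] at h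
  rw [map_one a, D.fix a] at h
  simp only [inv_one, mul_one, map_one, trace_one, mul_inv_cancel] at h
  have hN : (Fintype.card n : ℂ) ≠ 0 := Nat.cast_ne_zero.mpr Fintype.card_ne_zero
  have hE : (Fintype.card E : ℂ) = 2 * (Fintype.card n : ℂ) ^ 2 := by
    rw [← card_eq D hρ hz]; push_cast; ring
  rw [hE] at h
  field_simp at h
  linear_combination (-(1 : ℂ) / 2) * h

end Cfsg.Agent.Lib.MagicExt.Rational
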