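import Cfsg.Agent.Lib.MagicExt.Centre

/-!
# The ring of class sums

For a group of automorphisms of odd order without fixed points, the ring generated by the class sums
on the symplectic module, with its adjoint, gives one of four configurations invariant under a
two-group normalising the automorphisms.
-/

set_option autoImplicit false
set_option linter.unusedSectionVars false
set_option linter.style.haveILetI false

namespace Cfsg.Agent.Lib.MagicExt.Ring

open Cfsg.Agent.Lib.MagicExt.Datum Cfsg.Agent.Lib.MagicExt.Centre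

universe u v

theorem sq_pow_add {R : Type u} [CommRing R] (h2 : ∀ x : R, x + x = 0) (a b : R) :
    ∀ M : ℕ, (a + b) ^ 2 ^ M = a ^ 2 ^ M + b ^ 2 ^ M
  | 0 => by simp
  | M + 1 => by
    rw [pow_succ, pow_mul, pow_mul, pow_mul, sq_pow_add h2 a b M]
    linear_combination h2 (a ^ 2 ^ M * b ^ 2 ^ M)

/-- A power of Frobenius is idempotent. -/
theorem exists_frob (R : Type u) [CommRing R] [Finite R] :
    ∃ M : ℕ, 0 < M ∧ ∀ r : R, (r ^ 2 ^ M) ^ 2 ^ M = r ^ 2 ^ M := by
  obtain ⟨i, j, hne, hij⟩ :=
    Finite.exists_ne_map_eq_of_infinite fun (i : ℕ) (r : R) => r ^ 2 ^ (i + 1)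
  wlog hlt : i < j generalizing i j
  · exact this j i hne.symm hij.symm (by omega)
  have hrec : ∀ (r : R) (n : ℕ), i + 1 ≤ n → r ^ 2 ^ (n + (j - i)) = r ^ 2 ^ n := fun r n hn => by
    obtain ⟨d, rfl⟩ := Nat.exists_eq_add_of_le hn
    rw [show i + 1 + d + (j - i) = j + 1 + d by omega, pow_add 2 (j + 1), pow_add 2 (i + 1),
      pow_mul, pow_mul]
    exact congrArg (· ^ 2 ^ d) (congrFun hij r).symm
  have hrec' : ∀ (r : R) (c n : ℕ), i + 1 ≤ n → r ^ 2 ^ (n + c * (j - i)) = r ^ 2 ^ n := by
    intro r c
    induction c with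
    | zero => intro n _; simp
    | succ c ih =>
      intro n hn
      rw [Nat.succ_mul, ← Nat.add_assoc, hrec r _ (hn.trans (Nat.le_add_right _ _)), ih n hn]
  refine ⟨(i + 1) * (j - i), Nat.mul_pos (Nat.succ_pos i) (by omega), fun r => ?_⟩
  rw [← pow_mul, ← pow_add 2]
  exact hrec' r (i + 1) _ (Nat.le_mul_of_pos_right _ (by omega))

variable {E : Type u} [Group E] [Finite E] {z : E} (D : Dat z) (K : Subgroup (MulAut E))

/-- Adjoint endomorphisms. -/
def Adj (r r' : AddMonoid.End (V D)) : Prop := ∀ x y, form D (r x) y = form D x (r' y)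

theorem Adj.symm {r r' : AddMonoid.End (V D)} (h : Adj D r r') : Adj D r' r := fun x y => by
  rw [form_symm, ← h, form_symm]

theorem form_zero_left (y : V D) : form D 0 y = 0 := by
  have := form_add_left D 0 0 y
  rwa [add_zero, left_eq_add] at this

theorem form_zero_right (x : V D) : form D x 0 = 0 := by rw [form_symm, form_zero_left]

theorem form_eq (x y : V D) (h : ∀ w, form D x w = form D y w) : x = y := by
  have h1 : x + y = 0 := form_nondeg D fun w => by
    rw [form_add_left, h, CharTwo.add_self_eq_zero]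
  rw [eq_neg_of_add_eq_zero_left h1, neg_eq]

theorem Adj.unique {r r₁ r₂ : AddMonoid.End (V D)} (h₁ : Adj D r r₁) (h₂ : Adj D r r₂) :
    r₁ = r₂ :=
  AddMonoidHom.ext fun y => form_eq D _ _ fun w => ((h₁.symm D) y w).trans ((h₂.symm D) y w).symm

theorem adj_act (α : MulAut E) : Adj D (act D α) (act D α⁻¹) := fun x y => by
  refine (form_act D α⁻¹ _ _).symm.trans ?_
  show form D ((act D α⁻¹ * act D α) x) _ = _
  rw [← map_mul, inv_mul_cancel, map_one]
  rfl

/-- Class sums. -/
noncomputable def cls (C : ConjClasses K) : AddMonoid.End (V D) :=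
  letI := Fintype.ofFinite K
  letI := Classical.decEq (ConjClasses K)
  ∑ k ∈ Finset.univ.filter (fun k : K => ConjClasses.mk k = C), act D (k : MulAut E)

theorem mk_inv_eq {G : Type v} [Group G] {a b : G} (h : ConjClasses.mk a = ConjClasses.mk b) :
    ConjClasses.mk a⁻¹ = ConjClasses.mk b⁻¹ := by
  obtain ⟨c, hc⟩ := isConj_iff.mp (ConjClasses.mk_eq_mk_iff_isConj.mp h)
  exact ConjClasses.mk_eq_mk_iff_isConj.mpr (isConj_iff.mpr ⟨c, by rw [← hc]; group⟩)

theorem adj_cls (k : K) : Adj D (cls D K (ConjClasses.mk k)) (cls D K (ConjClasses.mk k⁻¹)) := by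
  classical
  letI := Fintype.ofFinite K
  intro x y
  let fl : V D →+ ZMod 2 := AddMonoidHom.mk' (fun w => form D w y) fun a b => form_add_left D a b y
  let fr : V D →+ ZMod 2 := AddMonoidHom.mk' (fun w => form D x w) fun a b => form_add_right D x a b
  have hev : ∀ (s : Finset K) (w : V D),
      (∑ l ∈ s, act D (l : MulAut E)) w = ∑ l ∈ s, act D (l : MulAut E) w := fun s w =>
    AddMonoidHom.finsetSum_apply _ _ _
  show fl _ = fr _
  simp only [cls, hev, map_sum]
  refine Finset.sum_nbij' (fun l => l⁻¹) (fun l => l⁻¹) ?_ ?_ ?_ ?_ ?_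
  · intro l hl
    simp only [Finset.mem_coe, Finset.mem_filter, Finset.mem_univ, true_and] at hl ⊢
    exact mk_inv_eq hl
  · intro l hl
    simp only [Finset.mem_coe, Finset.mem_filter, Finset.mem_univ, true_and] at hl ⊢
    simpa using mk_inv_eq hl
  · exact fun l _ => inv_inv l
  · exact fun l _ => inv_inv l
  · exact fun l _ => adj_act D (l : MulAut E) x y

theorem cls_comm (C : ConjClasses K) (k : K) :
    cls D K C * act D (k : MulAut E) = act D (k : MulAut E) * cls D K C := by
  classical
  letI := Fintype.ofFinite K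
  simp only [cls, Finset.sum_mul, Finset.mul_sum]
  refine Finset.sum_nbij' (fun l => k⁻¹ * l * k) (fun l => k * l * k⁻¹) ?_ ?_ ?_ ?_ ?_
  · intro l hl
    simp only [Finset.mem_coe, Finset.mem_filter, Finset.mem_univ, true_and] at hl ⊢
    rw [← hl]
    exact ConjClasses.mk_eq_mk_iff_isConj.mpr (isConj_iff.mpr ⟨k, by group⟩)
  · intro l hl
    simp only [Finset.mem_coe, Finset.mem_filter, Finset.mem_univ, true_and] at hl ⊢
    rw [← hl]
    exact ConjClasses.mk_eq_mk_iff_isConj.mpr (isConj_iff.mpr ⟨k⁻¹, by group⟩)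
  · exact fun l _ => by group
  · exact fun l _ => by group
  · intro l _
    rw [← map_mul, ← map_mul]
    congr 1
    simp [mul_assoc]

/-- The ring generated by the class sums. -/
noncomputable def R : Subring (AddMonoid.End (V D)) := Subring.closure (Set.range (cls D K))

theorem mem_comm_act {r : AddMonoid.End (V D)} (hr : r ∈ R D K) {k : MulAut E} (hk : k ∈ K) :
    r * act D k = act D k * r := by
  induction hr using Subring.closure_induction with
  | mem x hx => obtain ⟨C, rfl⟩ := hx; exact cls_comm D K C ⟨k, hk⟩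
  | zero => simp
  | one => simp
  | add x y _ _ hx hy => rw [add_mul, mul_add, hx, hy]
  | neg x _ hx => exact ((neg_mul _ _).trans (congrArg (- ·) hx)).trans (mul_neg _ _).symm
  | mul x y _ _ hx hy => rw [mul_assoc, hy, ← mul_assoc, hx, mul_assoc]

theorem comm_of_mem {r s : AddMonoid.End (V D)} (hr : r ∈ R D K) (hs : s ∈ R D K) :
    r * s = s * r := by
  classical
  letI := Fintype.ofFinite K
  induction hs using Subring.closure_induction with
  | mem x hx =>
    obtain ⟨C, rfl⟩ := hx
    simp only [cls, Finset.mul_sum, Finset.sum_mul]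
    exact Finset.sum_congr rfl fun l _ => mem_comm_act D K hr l.2
  | zero => simp
  | one => simp
  | add x y _ _ hx hy => rw [add_mul, mul_add, hx, hy]
  | neg x _ hx => exact ((mul_neg _ _).trans (congrArg (- ·) hx)).trans (neg_mul _ _).symm
  | mul x y _ _ hx hy => rw [← mul_assoc, hx, mul_assoc, hy, ← mul_assoc]

noncomputable instance commRing_R : CommRing (R D K) :=
  { (inferInstance : _root_.Ring (R D K)) with
    mul_comm := fun a b => Subtype.ext (comm_of_mem D K a.2 b.2) }

theorem exists_adj {r : AddMonoid.End (V D)} (hr : r ∈ R D K) :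
    ∃ r' ∈ R D K, Adj D r r' := by
  induction hr using Subring.closure_induction with
  | mem x hx =>
    obtain ⟨C, rfl⟩ := hx
    obtain ⟨k, rfl⟩ := ConjClasses.mk_surjective C
    exact ⟨_, Subring.subset_closure ⟨_, rfl⟩, adj_cls D K k⟩
  | zero => exact ⟨0, zero_mem _, fun x y => by
      show form D 0 y = form D x 0
      rw [form_zero_left, form_zero_right]⟩
  | one => exact ⟨1, one_mem _, fun x y => rfl⟩
  | add x y _ _ hx hy =>
    obtain ⟨x', hx', hxa⟩ := hx
    obtain ⟨y', hy', hya⟩ := hy
    exact ⟨x' + y', add_mem hx' hy', fun a b => by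
      show form D (x a + y a) b = form D a (x' b + y' b)
      rw [form_add_left, form_add_right, hxa, hya]⟩
  | neg x _ hx =>
    obtain ⟨x', hx', hxa⟩ := hx
    exact ⟨-x', neg_mem hx', fun a b => by
      show form D (-(x a)) b = form D a (-(x' b))
      rw [neg_eq, neg_eq, hxa]⟩
  | mul x y hxm hym hx hy =>
    obtain ⟨x', hx', hxa⟩ := hx
    obtain ⟨y', hy', hya⟩ := hy
    exact ⟨y' * x', mul_mem hy' hx', fun a b => by
      show form D (x (y a)) b = form D a (y' (x' b))
      rw [hxa, hya]⟩

/-- The adjoint on `R`. -/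
noncomputable def star' (r : R D K) : R D K :=
  ⟨(exists_adj D K r.2).choose, (exists_adj D K r.2).choose_spec.1⟩

theorem star'_spec (r : R D K) : Adj D r (star' D K r : AddMonoid.End (V D)) :=
  (exists_adj D K r.2).choose_spec.2

theorem star'_eq {r s : R D K} (h : Adj D r (s : AddMonoid.End (V D))) : star' D K r = s :=
  Subtype.ext ((star'_spec D K r).unique D h)

/-- The adjoint as a ring homomorphism. -/
noncomputable def starHom : R D K →+* R D K where
  toFun := star' D K
  map_one' := star'_eq D K fun _ _ => rfl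
  map_mul' r s := star'_eq D K fun a b => by
    rw [mul_comm (star' D K r)]
    show form D (r.1 (s.1 a)) b = form D a ((star' D K s).1 ((star' D K r).1 b))
    rw [star'_spec D K r, star'_spec D K s]
  map_zero' := star'_eq D K fun a b => by
    show form D 0 b = form D a 0
    rw [form_zero_left, form_zero_right]
  map_add' r s := star'_eq D K fun a b => by
    show form D (r.1 a + s.1 a) b = form D a ((star' D K r).1 b + (star' D K s).1 b)
    rw [form_add_left, form_add_right, star'_spec D K r, star'_spec D K s]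

theorem starHom_starHom (r : R D K) : starHom D K (starHom D K r) = r :=
  star'_eq D K ((star'_spec D K r).symm D)

theorem two_R (r : R D K) : r + r = 0 :=
  Subtype.ext (AddMonoidHom.ext fun x => add_self D _)

variable {K}

theorem conj_mem {α : MulAut E} (hα : ∀ k ∈ K, α * k * α⁻¹ ∈ K) {r : AddMonoid.End (V D)}
    (hr : r ∈ R D K) : act D α * r * act D α⁻¹ ∈ R D K := by
  classical
  letI := Fintype.ofFinite K
  have h1 : act D α⁻¹ * act D α = 1 := by rw [← map_mul, inv_mul_cancel, map_one]
  induction hr using Subring.closure_induction with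
  | mem x hx =>
    obtain ⟨C, rfl⟩ := hx
    obtain ⟨k, rfl⟩ := ConjClasses.mk_surjective C
    let c : K →* K :=
      { toFun := fun l => ⟨α * l * α⁻¹, hα l l.2⟩
        map_one' := Subtype.ext (by simp)
        map_mul' := fun a b => Subtype.ext (by simp [mul_assoc]) }
    have hinj : Function.Injective c := fun a b h => Subtype.ext (by
      simpa [c] using congrArg Subtype.val h)
    have hbij : Function.Bijective c := Finite.injective_iff_bijective.mp hinj
    let e : K ≃* K := MulEquiv.ofBijective c hbij
    refine Subring.subset_closure ⟨ConjClasses.mk (e k), ?_⟩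
    simp only [cls, Finset.mul_sum, Finset.sum_mul]
    symm
    refine Finset.sum_equiv e.toEquiv (fun l => ?_) fun l _ => ?_
    · simp only [Finset.mem_filter, Finset.mem_univ, true_and]
      constructor
      · intro h
        exact ConjClasses.mk_eq_mk_iff_isConj.mpr
          (e.toMonoidHom.map_isConj (ConjClasses.mk_eq_mk_iff_isConj.mp h))
      · intro h
        have := e.symm.toMonoidHom.map_isConj (ConjClasses.mk_eq_mk_iff_isConj.mp h)
        simpa [ConjClasses.mk_eq_mk_iff_isConj] using this
    · rw [← map_mul, ← map_mul]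
      rfl
  | zero => simp
  | one => rw [mul_one, ← map_mul, mul_inv_cancel, map_one]; exact one_mem _
  | add x y _ _ hx hy => rw [mul_add, add_mul]; exact add_mem hx hy
  | neg x _ hx =>
    have h2 : -x = x := AddMonoidHom.ext fun v => neg_eq D _
    rwa [h2]
  | mul x y _ _ hx hy =>
    have h := mul_mem hx hy
    rwa [show act D α * x * act D α⁻¹ * (act D α * y * act D α⁻¹) =
      act D α * (x * y) * act D α⁻¹ by
        simp only [mul_assoc]
        rw [← mul_assoc (act D α⁻¹) (act D α), h1, one_mul]] at h

variable (K)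

/-- Conjugation by a normalising automorphism. -/
noncomputable def cj {α : MulAut E} (hα : ∀ k ∈ K, α * k * α⁻¹ ∈ K) : R D K →+* R D K where
  toFun r := ⟨act D α * r.1 * act D α⁻¹, conj_mem D hα r.2⟩
  map_one' := Subtype.ext (by
    show act D α * 1 * act D α⁻¹ = 1
    rw [mul_one, ← map_mul, mul_inv_cancel, map_one])
  map_mul' r s := Subtype.ext (by
    show act D α * (r.1 * s.1) * act D α⁻¹ = _ * (act D α * s.1 * act D α⁻¹)
    simp only [mul_assoc]
    rw [← mul_assoc (act D α⁻¹) (act D α), ← map_mul, inv_mul_cancel, map_one, one_mul])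
  map_zero' := Subtype.ext (by simp)
  map_add' r s := Subtype.ext (by simp [mul_add, add_mul])

theorem cj_star {α : MulAut E} (hα : ∀ k ∈ K, α * k * α⁻¹ ∈ K) (r : R D K) :
    starHom D K (cj D K hα r) = cj D K hα (starHom D K r) :=
  star'_eq D K fun x y => by
    show form D (act D α (r.1 (act D α⁻¹ x))) y =
      form D x (act D α ((star' D K r).1 (act D α⁻¹ y)))
    rw [adj_act D α _ _, star'_spec D K r, adj_act D α⁻¹ _ _, inv_inv]

end Cfsg.Agent.Lib.MagicExt.Ring
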